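import Groth.Agent.DiagTorLib.AssocAlg
import Groth.Agent.DiagTorLib.Semi
import Groth.Agent.DiagTorLib.AssocLocal
import Groth.Agent.DiagTorLib.Pull
import Groth.Agent.IntMultRegLib.Deviss
import Groth.Agent.IntMultRegLib.BaseChange

/-!
# Intersection numbers along a section of a flat map
-/

set_option autoImplicit false
set_option backward.isDefEq.respectTransparency false
set_option backward.isDefEq.respectTransparency.types false
set_option linter.style.haveILetI false

universe u

open TensorProduct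
open DiagTorLib (chi_congr₂)

noncomputable section

namespace P1InterLib

/-- Intersection numbers do not change under a flat base change with a section. -/
theorem chi_baseChange_section {O A : Type u} [CommRing O] [CommRing A] [Algebra O A] [Algebra A O]
    [IsScalarTower O A O] [Module.Flat O A] (N : Type u) [AddCommGroup N] [Module O N] (J : Ideal O) :
    IntMult.chi A (A ⊗[O] N) (O ⧸ J) = IntMult.chi O N (O ⧸ J) := by
  have hs : Function.Surjective (algebraMap A O) := fun a =>
    ⟨algebraMap O A a, (IsScalarTower.algebraMap_apply O A O a).symm⟩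
  exact finsum_congr fun i => by rw [(DiagTorLib.semi_tor_adjoint (A := O) (B := A) (O ⧸ J) i N).length_eq hs]

variable {A : Type u} [CommRing A] [IsLocalRing A] [IsRegularLocalRing A]

theorem length_ne_top_of_isMax (I : Ideal A) (h : ∀ p : PrimeSpectrum A, I ≤ p.asIdeal → p.asIdeal.IsMaximal) :
    Module.length A (A ⧸ I) ≠ ⊤ := by
  refine CommAlgDim.length_ne_top_of_support fun p hp => h p ?_
  rw [Module.mem_support_iff_of_finite, Ideal.annihilator_quotient] at hp
  exact hp

/-- Only degree zero contributes for an element regular on the quotient. -/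
theorem finsum_chi_tor_principal (I P : Ideal A) (t : A) (ht : t ∈ IsLocalRing.maximalIdeal A) (ht0 : IsSMulRegular A t)
    (htP : IsSMulRegular (A ⧸ P) t) :
    ∑ᶠ q : ℕ, (-1 : ℤ) ^ q * IntMult.chi A (A ⧸ I) (DRing.Tor A q (A ⧸ P) (A ⧸ Ideal.span {t})) =
      IntMult.chi A (A ⧸ I) (A ⧸ (P ⊔ Ideal.span {t})) := by
  rw [finsum_eq_single _ 0 fun q hq => ?_]
  · obtain ⟨e⟩ := TorShiftLib.nonempty_tor_zero (R := A) (N := A ⧸ Ideal.span {t}) (A ⧸ P)
    rw [pow_zero, one_mul]
    have hP : (P • (⊤ : Submodule A (A ⧸ Ideal.span {t}))) = Submodule.map (Submodule.mkQ (Ideal.span {t})) P := by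
      rw [show (⊤ : Submodule A (A ⧸ Ideal.span {t})) = (⊤ : Submodule A A).map (Submodule.mkQ (Ideal.span {t})) by
        rw [Submodule.map_top, Submodule.range_mkQ], ← Submodule.map_smul'',
        show (P • (⊤ : Submodule A A) : Submodule A A) = P from Ideal.mul_top P]
    let e1 : ((A ⧸ P) ⊗[A] (A ⧸ Ideal.span {t})) ≃ₗ[A] (A ⧸ Ideal.span {t}) ⧸ (P • (⊤ : Submodule A (A ⧸ Ideal.span {t}))) :=
      TensorProduct.quotTensorEquivQuotSMul (A ⧸ Ideal.span {t}) P
    let e2 : ((A ⧸ Ideal.span {t}) ⧸ (P • (⊤ : Submodule A (A ⧸ Ideal.span {t})))) ≃ₗ[A]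
        A ⧸ (P ⊔ Ideal.span {t}) :=
      (Submodule.quotEquivOfEq _ _ hP).trans ((Submodule.quotientQuotientEquivQuotientSup (Ideal.span {t}) P).trans
        (Submodule.quotEquivOfEq _ _ (sup_comm _ _)))
    exact chi_congr₂ (LinearEquiv.refl A (A ⧸ I)) ((e.trans e1).trans e2)
  · have h0 : Subsingleton (DRing.Tor A q (A ⧸ P) (A ⧸ Ideal.span {t})) := by
      obtain ⟨q, rfl⟩ := Nat.exists_eq_add_one.2 (Nat.pos_of_ne_zero hq)
      have hl : Ideal.span {t} = Groth.Agent.KoszChiLib.Idl [t] := by simp [Groth.Agent.KoszChiLib.Idl]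
      have hreg : RingTheory.Sequence.IsRegular A [t] :=
        (IsLocalRing.isRegular_iff_isWeaklyRegular_of_subset_maximalIdeal (fun r hr => by
          rw [List.mem_singleton.1 hr]; exact ht)).2
          ((RingTheory.Sequence.isWeaklyRegular_cons_iff _ t []).2 ⟨ht0, RingTheory.Sequence.IsWeaklyRegular.nil _ _⟩)
      obtain ⟨e⟩ := DiagTorLib.nonempty_tor_koszul [t] (KoszTorLib.koszulRegular_of_regular [t] hreg) (A ⧸ P) (q + 1)
      haveI : Subsingleton (Groth.Agent.KoszChiLib.H [t] (ModuleCat.of A (A ⧸ P)) (-((q + 1 : ℕ) : ℤ))) :=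
        IntMultRegLib.H_eq_zero_of_regular [t] _ (by
          rw [List.reverse_singleton]
          exact (RingTheory.Sequence.isWeaklyRegular_cons_iff _ t []).2
            ⟨htP, RingTheory.Sequence.IsWeaklyRegular.nil _ _⟩) _ (by omega)
      haveI := e.toEquiv.subsingleton
      rw [← Module.length_eq_zero_iff (R := A), ← hl] at *
      rw [IntMultRegLib.length_tor_comm]
      assumption
    have h1 : IntMult.chi A (A ⧸ I) (DRing.Tor A q (A ⧸ P) (A ⧸ Ideal.span {t})) = 0 := by
      rw [IntMultRegLib.chi_comm]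
      exact DiagTorLib.chi_eq_zero_of_subsingleton _ _
    rw [h1, mul_zero]

/-- Expanding the intersection with the `Tor` modules over the primes of top dimension. -/
theorem finsum_chi_tor_eq_sum (U V N : Type u) [AddCommGroup U] [Module A U] [Module.Finite A U] [AddCommGroup V]
    [Module A V] [Module.Finite A V] [AddCommGroup N] [Module A N] [Module.Finite A N] (I₀ : Ideal A)
    (hI₀ : I₀ ≤ Module.annihilator A U ⊔ Module.annihilator A V)
    (hmeet : ∀ p : PrimeSpectrum A, I₀ ⊔ Module.annihilator A N ≤ p.asIdeal → p.asIdeal.IsMaximal)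
    (T : Finset (PrimeSpectrum A))
    (hT : ∀ P ∈ T, ∀ Q : PrimeSpectrum A, I₀ ≤ Q.asIdeal → Q.asIdeal ≤ P.asIdeal → Q = P)
    (hzero : ∀ Q : PrimeSpectrum A, I₀ ≤ Q.asIdeal → Q ∉ T → IntMult.chi A (A ⧸ Q.asIdeal) N = 0) :
    ∑ᶠ p : ℕ, (-1 : ℤ) ^ p * IntMult.chi A (DRing.Tor A p U V) N =
      ∑ Q ∈ T, (∑ᶠ p : ℕ, (-1 : ℤ) ^ p * ((IntMultRegLib.lenAt Q (DRing.Tor A p U V)).toNat : ℤ)) *
        IntMult.chi A (A ⧸ Q.asIdeal) N := by
  classical
  haveI : ∀ p, Module.Finite A (DRing.Tor A p U V) := fun p => IntMultRegLib.finite_tor (R := A) _ p _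
  have hchi : ∀ p, IntMult.chi A (DRing.Tor A p U V) N =
      ∑ Q ∈ T, ((IntMultRegLib.lenAt Q (DRing.Tor A p U V)).toNat : ℤ) * IntMult.chi A (A ⧸ Q.asIdeal) N :=
    fun p => IntMultRegLib.chi_eq_sum N I₀ hmeet T hT hzero _ fun Q hQ =>
      hI₀.trans ((IntMultRegLib.tor_killed (R := A) U V p).trans hQ)
  let D := (IsLocalRing.maximalIdeal A).spanFinrank + 1
  have hlen0 : ∀ p, D ≤ p → ∀ Q, IntMultRegLib.lenAt Q (DRing.Tor A p U V) = 0 := fun p hp Q => by
    haveI : Subsingleton (DRing.Tor A p U V) :=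
      IntMultRegLib.subsingleton_tor_regular (R := A) _ _ p (by omega)
    have h1 : (1 : A) ∈ Module.annihilator A (DRing.Tor A p U V) :=
      Module.mem_annihilator.2 fun y => Subsingleton.elim (α := DRing.Tor A p U V) _ _
    exact IntMultRegLib.lenAt_eq_zero_of_not_le Q _ fun hle => Q.isPrime.ne_top ((Ideal.eq_top_iff_one _).2 (hle h1))
  have hr : ∀ Q : PrimeSpectrum A, ∑ᶠ p : ℕ, (-1 : ℤ) ^ p * ((IntMultRegLib.lenAt Q (DRing.Tor A p U V)).toNat : ℤ) =
      ∑ p ∈ Finset.range D, (-1 : ℤ) ^ p * ((IntMultRegLib.lenAt Q (DRing.Tor A p U V)).toNat : ℤ) := fun Q =>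
    finsum_eq_sum_of_support_subset _ fun p hp => by
      rw [Finset.coe_range, Set.mem_Iio]
      by_contra hlt
      exact hp (by simp [hlen0 p (by omega) Q])
  rw [finsum_eq_sum_of_support_subset _ (s := Finset.range D) fun p hp => ?_]
  · rw [Finset.sum_congr rfl fun p _ => by rw [hchi p, Finset.mul_sum], Finset.sum_comm]
    refine Finset.sum_congr rfl fun Q _ => ?_
    rw [hr Q, Finset.sum_mul]
    exact Finset.sum_congr rfl fun p _ => (mul_assoc _ _ _).symm
  · rw [Finset.coe_range, Set.mem_Iio]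
    by_contra hlt
    refine hp ?_
    show (-1 : ℤ) ^ p * IntMult.chi A (DRing.Tor A p U V) N = 0
    rw [hchi p, Finset.sum_eq_zero fun Q _ => by rw [hlen0 p (by omega) Q]; simp, mul_zero]

end P1InterLib
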