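import Groth.Agent.P1InterLib.Sect
import Groth.Agent.P1InterLib.Alg
import Groth.Agent.DiagTorLib.AssocCycle
import Groth.Agent.DiagTorLib.CutDim
import Groth.Agent.RTrivLib.P1
import Groth.Agent.LichtLib.ProjOver
import Groth.Agent.GenusZeroLib.PSpace

/-!
# The fibres over `0` and `∞` of the product with a cycle pulled back from the base
-/

set_option autoImplicit false
set_option backward.isDefEq.respectTransparency false
set_option backward.isDefEq.respectTransparency.types false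
set_option linter.style.haveILetI false

universe u

open CategoryTheory CategoryTheory.Limits AlgebraicGeometry TopologicalSpace Topology
open EquidimLib (stalkPt)
open CycDivLib (primeOf stalkPt_primeOf)
open DiagTorLib (single single_self single_ne)
open TensorProduct

noncomputable section

namespace P1InterLib

section General

variable {Y : Scheme.{u}}

/-- The coefficients of a closed subscheme from the stalks of its ideal. -/
theorem subschemeFun_closedImmersion {Z : Scheme.{u}} (δ : Y → ℤ) (k : ℤ) (j : Z ⟶ Y) [IsClosedImmersion j] (y : Y) :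
    Cyc.subschemeFun δ k j y = if δ y = k then
      ((Module.length (Y.presheaf.stalk y) (↑(Y.presheaf.stalk y) ⧸ IntMult.stalkIdeal j.ker y)).toNat : ℤ) else 0 := by
  simp only [Cyc.subschemeFun]
  split_ifs
  swap
  · rfl
  by_cases h : y ∈ Set.range j
  · obtain ⟨z, rfl⟩ := h
    rw [show {v : Z | j v = j z} = {z} from Set.ext fun v =>
      ⟨fun hv => j.isClosedEmbedding.injective hv, fun hv => congrArg _ hv⟩, finsum_mem_singleton]
    congr 2
    rw [DiagTorLib.stalkIdeal_ker, ← bot_sup_eq (RingHom.ker (j.stalkMap z).hom),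
      DiagTorLib.length_quot_of_surjective _ (j.stalkMap_surjective z) ⊥ ⊥ Ideal.map_bot, length_ring_quotBot]
  · have htop : IntMult.stalkIdeal j.ker y = ⊤ := by
      by_contra hne
      refine h ?_
      have hy := (IntMultRegLib.stalkPt_mem_support_iff j.ker y (IsLocalRing.closedPoint _)).2
        (IsLocalRing.le_maximalIdeal hne)
      rw [show stalkPt y (IsLocalRing.closedPoint (Y.presheaf.stalk y)) = y from
        Scheme.fromSpecStalk_closedPoint] at hy
      rw [← SetLike.mem_coe, DiagTorLib.coe_support_ker] at hy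
      exact hy
    haveI : Subsingleton (↑(Y.presheaf.stalk y) ⧸ IntMult.stalkIdeal j.ker y) := Ideal.Quotient.subsingleton_iff.2 htop
    rw [show {v : Z | j v = y} = ∅ from Set.eq_empty_of_forall_notMem fun v hv => h ⟨v, hv⟩, finsum_mem_empty,
      Module.length_eq_zero, ENat.toNat_zero, Nat.cast_zero]

/-- Localizing a quotient by an ideal sheaf at a generalization. -/
theorem lenAt_stalkQuot (I : Y.IdealSheafData) (y : Y) (Q : PrimeSpectrum (Y.presheaf.stalk y)) :
    IntMultRegLib.lenAt Q (↑(Y.presheaf.stalk y) ⧸ IntMult.stalkIdeal I y) =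
      Module.length (Y.presheaf.stalk (stalkPt y Q))
        (↑(Y.presheaf.stalk (stalkPt y Q)) ⧸ IntMult.stalkIdeal I (stalkPt y Q)) := by
  have hτ : stalkPt y Q ⤳ y := EquidimLib.stalkPt_specializes y Q
  letI : Algebra (Y.presheaf.stalk y) (Y.presheaf.stalk (stalkPt y Q)) :=
    (Y.presheaf.stalkSpecializes hτ).hom.toAlgebra
  haveI : IsLocalization.AtPrime (Y.presheaf.stalk (stalkPt y Q)) Q.asIdeal := by
    have h := CycDivLib.isLocalization_stalkSpecializes hτ
    rwa [DiagTorLib.primeOf_stalkPt] at h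
  rw [← DiagTorLib.length_localized (L := Y.presheaf.stalk (stalkPt y Q)) Q]
  exact ((Ideal.qoutMapEquivTensorQout (Y.presheaf.stalk (stalkPt y Q))).symm.trans
    (Submodule.quotEquivOfEq _ _ (DiagTorLib.stalkIdeal_specializes I hτ).symm)).length_eq

/-- The intersection number at a generalization, through localization. -/
theorem finsum_lenAt_tor [IsLocallyNoetherian Y] (I J : Y.IdealSheafData) (y : Y) (Q : PrimeSpectrum (Y.presheaf.stalk y)) :
    ∑ᶠ p : ℕ, (-1 : ℤ) ^ p * ((IntMultRegLib.lenAt Q (DRing.Tor (Y.presheaf.stalk y) p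
        (↑(Y.presheaf.stalk y) ⧸ IntMult.stalkIdeal I y) (↑(Y.presheaf.stalk y) ⧸ IntMult.stalkIdeal J y))).toNat : ℤ) =
      IntMult.mult J I (stalkPt y Q) := by
  let τ := stalkPt y Q
  have hτ : τ ⤳ y := EquidimLib.stalkPt_specializes y Q
  let L := Y.presheaf.stalk τ
  letI : Algebra (Y.presheaf.stalk y) L := (Y.presheaf.stalkSpecializes hτ).hom.toAlgebra
  haveI : IsLocalization.AtPrime L Q.asIdeal := by
    have h := CycDivLib.isLocalization_stalkSpecializes hτ
    rwa [DiagTorLib.primeOf_stalkPt] at h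
  haveI : Module.Flat (Y.presheaf.stalk y) L := IsLocalization.flat L Q.asIdeal.primeCompl
  let e : ∀ (I' : Y.IdealSheafData),
      (↑L ⧸ IntMult.stalkIdeal I' τ) ≃ₗ[L] L ⊗[Y.presheaf.stalk y] (↑(Y.presheaf.stalk y) ⧸ IntMult.stalkIdeal I' y) :=
    fun I' => (Submodule.quotEquivOfEq _ _ (DiagTorLib.stalkIdeal_specializes I' hτ)).trans
      (Ideal.qoutMapEquivTensorQout L)
  rw [IntMult.mult, DiagTorLib.chi_congr₂ (e I) (e J), IntMult.chi]
  refine finsum_congr fun q => ?_
  obtain ⟨e'⟩ := IntMultRegLib.nonempty_tor_baseChange (A := Y.presheaf.stalk y) L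
    (↑(Y.presheaf.stalk y) ⧸ IntMult.stalkIdeal J y) q (↑(Y.presheaf.stalk y) ⧸ IntMult.stalkIdeal I y)
  rw [← e'.length_eq, DiagTorLib.length_localized Q]

/-- A closed immersion of an integral scheme has the ideal of its generic point. -/
theorem ker_eq_ptIdeal {Z : Scheme.{u}} [IsIntegral Z] (j : Z ⟶ Y) [IsClosedImmersion j] :
    j.ker = IntMult.ptIdeal (j (genericPoint Z)) := by
  rw [AlgSpRegLib.ker_eq_vanishingIdeal, IntMult.ptIdeal]
  congr 1
  refine Closeds.ext ?_
  rw [Closeds.coe_closure]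
  show closure (Set.range j) = closure {j (genericPoint Z)}
  refine le_antisymm (closure_minimal ?_ isClosed_closure) (closure_mono (Set.singleton_subset_iff.2 ⟨_, rfl⟩))
  rintro _ ⟨y, rfl⟩
  exact specializes_iff_mem_closure.1 (((genericPoint_spec Z).specializes trivial).map j.continuous)

end General

theorem isIntegral_projSpaceOver {K : Type u} [Field K] [IsAlgClosed K] {X : Scheme.{u}}
    (f : X ⟶ Spec (CommRingCat.of K)) [LocallyOfFiniteType f] [IsIntegral X] :
    IsIntegral (CohB1.ProjSpaceOver 1 X) := by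
  let πK := CohB1.ProjSpaceOver.toBase 1 (Spec (CommRingCat.of K))
  haveI : Smooth πK := RTrivLib.smooth_toBase 1 _
  obtain ⟨e, -⟩ := LichtLib.exists_iso_over 1 K
  haveI : IsIntegral (CohB1.ProjSpace 1 K) := GenusZeroLib.isIntegral_projSpace K 1
  haveI : Nonempty ↥(CohB1.ProjSpaceOver 1 (Spec (CommRingCat.of K))) := ⟨e.hom (genericPoint ↥(CohB1.ProjSpace 1 K))⟩
  haveI : IsIntegral (CohB1.ProjSpaceOver 1 (Spec (CommRingCat.of K))) := isIntegral_of_isOpenImmersion e.inv
  have hsq : IsPullback (P1.toP1 f) (CohB1.ProjSpaceOver.toBase 1 X) πK f := by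
    refine IsPullback.of_right (h₁₂ := pullback.fst _ _) (h₂₂ := specULiftZIsTerminal.from _)
      (v₁₃ := CohB1.ProjSpace.toSpec 1 (ULift.{u} ℤ)) ?_ ?_ (IsPullback.of_hasPullback _ _)
    · rw [show P1.toP1 f ≫ pullback.fst _ _ = pullback.fst _ _ from
        (pullback.lift_fst _ _ _).trans (Category.comp_id _), show f ≫ specULiftZIsTerminal.from _ =
        specULiftZIsTerminal.from X from specULiftZIsTerminal.hom_ext _ _]
      exact IsPullback.of_hasPullback _ _
    · exact pullback.lift_snd _ _ _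
  haveI := DiagTorLib.isIntegral_pullback f πK
  haveI : Nonempty ↥(CohB1.ProjSpaceOver 1 X) := ⟨hsq.flip.isoPullback.inv (genericPoint ↥(pullback f πK))⟩
  exact isIntegral_of_isOpenImmersion hsq.flip.isoPullback.hom

section P1

variable {X : Scheme.{u}} [IsIntegral X] (δ : X → ℤ) (hX : Cyc.IsSetup X δ) (δP : ↥(CohB1.ProjSpaceOver 1 X) → ℤ)
  (hP : Cyc.DeltaCompat (CohB1.ProjSpaceOver.toBase 1 X) δP δ)

include hX in
omit [IsIntegral X] in
theorem delta_mono {a b : X} (h : a ⤳ b) : δ b ≤ δ a ∧ (δ b = δ a → a = b) := by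
  by_cases e : a = b
  · subst e; exact ⟨le_rfl, fun _ => rfl⟩
  · have := (hX.2.2 _ _ h e).1
    exact ⟨this.le, fun h' => absurd h' this.ne⟩

include hX hP in
omit [IsIntegral X] in
/-- A maximal point on a section of the closure of a point off the section has codimension one. -/
theorem delta_drop (i : Fin (1 + 1)) {v : ↥(CohB1.ProjSpaceOver 1 X)} (hv : v ∉ Set.range (P1.sect X i)) (x : X)
    (h : v ⤳ P1.sect X i x) (hmax : ∀ y : X, v ⤳ P1.sect X i y → y ⤳ x → y = x) : δP v = δ x + 1 := by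
  classical
  have hPs := CycP1Lib.isSetup_proj hX hP
  haveI := hPs.1
  let p := P1.sect X i x
  let A := (CohB1.ProjSpaceOver 1 X).presheaf.stalk p
  let t : A := (CohB1.ProjSpaceOver 1 X).presheaf.germ _ _ (CycP1Lib.sect_mem i x) (CycP1Lib.t X i)
  have hrange : ∀ z, v ⤳ z → z ⤳ p → z ∈ Set.range (P1.sect X i) → z = p := by
    rintro z h1 h2 ⟨y, rfl⟩
    rw [hmax y h1 ((P1.sect X i).isEmbedding.isInducing.specializes_iff.1 h2)]
  have himm : ∀ z, v ⤳ z → z ⤳ p → z = v ∨ z = p := by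
    intro z h1 h2
    by_contra hne
    push_neg at hne
    have hz : z ∉ Set.range (P1.sect X i) := fun hz => hne.2 (hrange z h1 h2 hz)
    let Pv := (primeOf h).asIdeal
    let Pz := (primeOf h2).asIdeal
    have hle : Pv ≤ Pz := EquidimLib.le_of_stalkPt (p := primeOf h) (q := primeOf h2)
      (by rw [stalkPt_primeOf, stalkPt_primeOf]; exact h1)
    haveI : IsLocalRing (↑A ⧸ Pv) := IsLocalRing.of_surjective' (Ideal.Quotient.mk Pv) Ideal.Quotient.mk_surjective
    have hmem : t ∈ IsLocalRing.maximalIdeal A :=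
      (CycP1Lib.germ_t_mem_iff (CycP1Lib.sect_mem i x)).2 ⟨x, rfl⟩
    haveI : IsLocalHom (Ideal.Quotient.mk Pv) := IsLocalHom.of_surjective _ Ideal.Quotient.mk_surjective
    have hd : ringKrullDim (↑A ⧸ Pv) ≤ ([Ideal.Quotient.mk Pv t].length : ℕ) := by
      refine DiagTorLib.ringKrullDim_le_length _ (fun a ha => ?_) fun q hq => ?_
      · rw [List.mem_singleton.1 ha, IsLocalRing.mem_maximalIdeal, mem_nonunits_iff, isUnit_map_iff]
        exact hmem
      · let Q : PrimeSpectrum A := PrimeSpectrum.comap (Ideal.Quotient.mk Pv) q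
        have h5 : Pv ≤ Q.asIdeal := fun a ha => by
          show Ideal.Quotient.mk Pv a ∈ q.asIdeal
          rw [Ideal.Quotient.eq_zero_iff_mem.2 ha]
          exact zero_mem _
        have h6 : v ⤳ stalkPt p Q := by
          have := EquidimLib.specializes_stalkPt (x := p) (show primeOf h ≤ Q from h5)
          rwa [stalkPt_primeOf] at this
        have h7 : stalkPt p Q ⤳ p := EquidimLib.stalkPt_specializes p Q
        have h8 : t ∈ (primeOf h7).asIdeal := by
          rw [DiagTorLib.primeOf_stalkPt]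
          exact hq _ (List.mem_singleton_self _)
        have h9 : Q = IsLocalRing.closedPoint A := EquidimLib.stalkPt_injective p
          ((hrange _ h6 h7 ((germ_t_mem_primeOf i x h7).1 h8)).trans Scheme.fromSpecStalk_closedPoint.symm)
        have h10 : q.asIdeal = (IsLocalRing.maximalIdeal A).map (Ideal.Quotient.mk Pv) := by
          have h11 : q.asIdeal.comap (Ideal.Quotient.mk Pv) = IsLocalRing.maximalIdeal A :=
            congrArg PrimeSpectrum.asIdeal h9
          rw [← h11, Ideal.map_comap_of_surjective _ Ideal.Quotient.mk_surjective]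
        exact h10.trans (IsLocalRing.map_maximalIdeal_of_surjective _ Ideal.Quotient.mk_surjective)
    haveI : Pv.IsPrime := (primeOf h).isPrime
    haveI : Pz.IsPrime := (primeOf h2).isPrime
    let Pz' := Pz.map (Ideal.Quotient.mk Pv)
    have hcomap : Pz'.comap (Ideal.Quotient.mk Pv) = Pz := by
      rw [Ideal.comap_map_of_surjective _ Ideal.Quotient.mk_surjective, ← RingHom.ker_eq_comap_bot, Ideal.mk_ker,
        sup_eq_left.2 hle]
    haveI : Pz'.IsPrime := Ideal.map_isPrime_of_surjective Ideal.Quotient.mk_surjective (by rwa [Ideal.mk_ker])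
    have h11 : (⊥ : Ideal (↑A ⧸ Pv)) < Pz' := bot_lt_iff_ne_bot.2 fun hb => hne.1 (by
      have e : primeOf h2 = primeOf h := PrimeSpectrum.ext (by
        show Pz = Pv
        rw [← hcomap, hb, ← RingHom.ker_eq_comap_bot, Ideal.mk_ker])
      rw [← stalkPt_primeOf h2, e, stalkPt_primeOf])
    have h12 : Pz' < IsLocalRing.maximalIdeal (↑A ⧸ Pv) :=
      (IsLocalRing.le_maximalIdeal (Ideal.IsPrime.ne_top inferInstance)).lt_of_ne fun hm => hne.2 (by
        have e : primeOf h2 = IsLocalRing.closedPoint A := PrimeSpectrum.ext (by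
          show Pz = IsLocalRing.maximalIdeal A
          rw [← hcomap, hm, IsLocalRing.maximalIdeal_comap])
        rw [← stalkPt_primeOf h2, e]
        exact Scheme.fromSpecStalk_closedPoint)
    haveI : IsDomain (↑A ⧸ Pv) := Ideal.Quotient.isDomain Pv
    haveI : (IsLocalRing.maximalIdeal (↑A ⧸ Pv)).IsPrime := (IsLocalRing.maximalIdeal.isMaximal _).isPrime
    have h13 := Ideal.height_strict_mono_of_isPrime_of_isPrime h11
    have h14 := Ideal.height_strict_mono_of_isPrime_of_isPrime h12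
    rw [← IsLocalRing.maximalIdeal_height_eq_ringKrullDim, List.length_singleton] at hd
    have h15 : (IsLocalRing.maximalIdeal (↑A ⧸ Pv)).height ≤ 1 := by exact_mod_cast hd
    have h16 : Pz'.height = 0 := ENat.lt_one_iff_eq_zero.1 (h14.trans_le h15)
    rw [h16] at h13
    exact not_lt_bot h13
  rw [(hPs.2.2 v p h fun e => hv ⟨x, e.symm⟩).2 himm, CycP1Lib.delta_sect hP]

include hX hP in
omit [IsIntegral X] in
/-- Below a point of a section there is a maximal one in the closure of a point. -/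
theorem exists_drop (i : Fin (1 + 1)) {v : ↥(CohB1.ProjSpaceOver 1 X)} (hv : v ∉ Set.range (P1.sect X i)) (x : X)
    (h : v ⤳ P1.sect X i x) : ∃ y : X, v ⤳ P1.sect X i y ∧ y ⤳ x ∧ δP v = δ y + 1 := by
  haveI := hX.1
  haveI := (CycP1Lib.isSetup_proj hX hP).1
  let J := IntMult.stalkIdeal ((IntMult.ptIdeal v).comap (P1.sect X i)) x
  have hsupp : ∀ y, y ∈ ((IntMult.ptIdeal v).comap (P1.sect X i)).support ↔ v ⤳ P1.sect X i y := fun y => by
    rw [Scheme.IdealSheafData.support_comap]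
    exact DiagTorLib.mem_support_ptIdeal _ _
  have hJ : J ≤ (IsLocalRing.closedPoint (X.presheaf.stalk x)).asIdeal :=
    (IntMultRegLib.stalkPt_mem_support_iff _ x _).1 (by
      rw [show stalkPt x (IsLocalRing.closedPoint (X.presheaf.stalk x)) = x from Scheme.fromSpecStalk_closedPoint]
      exact (hsupp x).2 h)
  obtain ⟨q, hq, hqle⟩ := Ideal.exists_minimalPrimes_le hJ
  let Q : PrimeSpectrum (X.presheaf.stalk x) := ⟨q, hq.1.1⟩
  have hvy : v ⤳ P1.sect X i (stalkPt x Q) :=
    (hsupp _).1 ((IntMultRegLib.stalkPt_mem_support_iff _ x Q).2 hq.1.2)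
  refine ⟨stalkPt x Q, hvy, EquidimLib.stalkPt_specializes x Q, delta_drop δ hX δP hP i hv _ hvy fun z hz1 hz2 => ?_⟩
  obtain ⟨R, rfl⟩ := EquidimLib.exists_stalkPt (hz2.trans (EquidimLib.stalkPt_specializes x Q))
  have hRQ : R ≤ Q := EquidimLib.le_of_stalkPt hz2
  have h3 : q ≤ R.asIdeal := hq.2 ⟨R.isPrime, (IntMultRegLib.stalkPt_mem_support_iff _ x R).1 ((hsupp _).2 hz1)⟩ hRQ
  exact congrArg _ (PrimeSpectrum.ext (le_antisymm hRQ h3))

include hX hP in
theorem delta_genericPoint [IsIntegral (CohB1.ProjSpaceOver 1 X)] :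
    δP (genericPoint ↥(CohB1.ProjSpaceOver 1 X)) = δ (genericPoint X) + 1 := by
  refine delta_drop δ hX δP hP 0 (fun h => ?_) (genericPoint X) ((genericPoint_spec _).specializes trivial) fun y _ hy => ?_
  · refine CycP1Lib.not_mem_both (i := Fin.rev 0) (p := P1.sect X (Fin.rev 0) (genericPoint X)) ⟨_, rfl⟩ ?_
    rw [Fin.rev_rev]
    exact (P1.sect X 0).isClosedEmbedding.isClosed_range.stableUnderSpecialization
      ((genericPoint_spec _).specializes trivial) h
  · exact (hy.antisymm ((genericPoint_spec X).specializes trivial)).eq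

end P1

section Main

/-- The coefficients of the fibre of a closure over a section. -/
def fibFun {X : Scheme.{u}} (δ : X → ℤ) (s : ℤ) (w : ↥(CohB1.ProjSpaceOver 1 X)) (i : Fin (1 + 1)) : X → ℤ :=
  fun u => if δ u = s then ((Module.length (X.presheaf.stalk u) (↑(X.presheaf.stalk u) ⧸
    IntMult.stalkIdeal ((IntMult.ptIdeal w).comap (P1.sect X i)) u)).toNat : ℤ) else 0

variable {K : Type u} [Field K] [IsAlgClosed K] {X : Scheme.{u}} (f : X ⟶ Spec (CommRingCat.of K)) [Smooth f]
  [IsSeparated f] [QuasiCompact f] [IsIntegral X] (δ : X → ℤ) (hX : Cyc.IsSetup X δ)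
  (hδ : Cyc.DeltaCompat f δ (fun _ => 0)) (n : ℤ) (hn : δ (genericPoint X) = n)
  (δP : ↥(CohB1.ProjSpaceOver 1 X) → ℤ) (hP : Cyc.DeltaCompat (CohB1.ProjSpaceOver.toBase 1 X) δP δ)
  (r s k : ℤ) (hk : k = r + s - n) (v : X) (hv : δ v = r) (w : ↥(CohB1.ProjSpaceOver 1 X)) (hw : δP w = s + 1)
  (i : Fin (1 + 1)) (hwi : w ∉ Set.range (P1.sect X i))
  (hprop : IntMult.IntersectProperly δ n (single v) (fibFun δ s w i))

omit [IsAlgClosed K] [Smooth f] [IsSeparated f] [QuasiCompact f] [IsIntegral X] in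
include hδ hP in
theorem deltaCompat_toBase_comp :
    Cyc.DeltaCompat (CohB1.ProjSpaceOver.toBase 1 X ≫ f) δP (fun _ => 0) := by
  intro p
  obtain ⟨a, ha, ha'⟩ := hP p
  obtain ⟨b, hb, hb'⟩ := hδ (CohB1.ProjSpaceOver.toBase 1 X p)
  refine ⟨b + a, ?_, by simp only at hb' ⊢; push_cast; omega⟩
  show Dual3.resTrdeg (CohB1.ProjSpaceOver.toBase 1 X ≫ f) p = _
  rw [AlgSpLib.resTrdeg_comp, show Dual3.resTrdeg f (CohB1.ProjSpaceOver.toBase 1 X p) = (b : Cardinal) from hb,
    show Dual3.resTrdeg (CohB1.ProjSpaceOver.toBase 1 X) p = (a : Cardinal) from ha, Nat.cast_add]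

omit [IsIntegral X] in
theorem mem_supp_fib (u : X) :
    u ∈ ((IntMult.ptIdeal w).comap (P1.sect X i)).support ↔ w ⤳ P1.sect X i u := by
  rw [Scheme.IdealSheafData.support_comap]
  exact DiagTorLib.mem_support_ptIdeal _ _

include hX hP hw hwi in
omit [IsIntegral X] in
theorem fib_le {u : X} (h : w ⤳ P1.sect X i u) : δ u ≤ s := by
  have h' := ((CycP1Lib.isSetup_proj hX hP).2.2 w _ h fun e => hwi ⟨u, e.symm⟩).1
  rw [CycP1Lib.delta_sect hP, hw] at h'
  omega

include hX hP hw hwi in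
omit [IsIntegral X] in
theorem fib_ne_zero {u : X} (h : w ⤳ P1.sect X i u) (hu : δ u = s) : fibFun δ s w i u ≠ 0 := by
  haveI := hX.1
  let J := IntMult.stalkIdeal ((IntMult.ptIdeal w).comap (P1.sect X i)) u
  have hJ : J ≤ (IsLocalRing.closedPoint (X.presheaf.stalk u)).asIdeal :=
    (IntMultRegLib.stalkPt_mem_support_iff _ u _).1 (by
      rw [show stalkPt u (IsLocalRing.closedPoint (X.presheaf.stalk u)) = u from Scheme.fromSpecStalk_closedPoint]
      exact (mem_supp_fib w i u).2 h)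
  have htop : Module.length (X.presheaf.stalk u) (↑(X.presheaf.stalk u) ⧸ J) ≠ ⊤ := by
    refine CommAlgDim.length_ne_top_of_support fun p hp => ?_
    rw [Module.mem_support_iff_of_finite, Ideal.annihilator_quotient] at hp
    have h1 := (mem_supp_fib w i _).1 ((IntMultRegLib.stalkPt_mem_support_iff _ u p).2 hp)
    have h2 := fib_le δ hX δP hP s w hw i hwi h1
    have h3 := delta_mono δ hX (EquidimLib.stalkPt_specializes u p)
    have h4 : stalkPt u p = u := h3.2 (by omega)
    obtain rfl : p = IsLocalRing.closedPoint _ :=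
      EquidimLib.stalkPt_injective u (h4.trans Scheme.fromSpecStalk_closedPoint.symm)
    exact IsLocalRing.maximalIdeal.isMaximal _
  simp only [fibFun, if_pos hu, ne_eq, Nat.cast_eq_zero, ENat.toNat_eq_zero, not_or]
  refine ⟨fun h0 => ?_, htop⟩
  haveI := Module.length_eq_zero_iff.1 h0
  exact (IsLocalRing.closedPoint (X.presheaf.stalk u)).isPrime.ne_top
    (top_le_iff.1 ((Ideal.Quotient.subsingleton_iff.1 ‹_›).symm.le.trans hJ))

include hX hP hw hwi hk hv hprop in
omit [IsIntegral X] in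
theorem bound_base {ω : X} (hvω : v ⤳ ω) (hwω : w ⤳ P1.sect X i ω) : δ ω ≤ k := by
  obtain ⟨y, h1, h2, h3⟩ := exists_drop δ hX δP hP i hwi ω hwω
  have hy : δ y = s := by omega
  have := hprop v y ω (by rw [single_self]; exact one_ne_zero) (fib_ne_zero δ hX δP hP s w hw i hwi h1 hy) hvω h2
  omega

include hX hP hw hwi hk hv hprop in
omit [IsIntegral X] in
theorem bound_top {ζ : ↥(CohB1.ProjSpaceOver 1 X)} (hvζ : v ⤳ CohB1.ProjSpaceOver.toBase 1 X ζ) (hwζ : w ⤳ ζ)
    {x : X} (hζx : ζ ⤳ P1.sect X i x) :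
    δP ζ ≤ k + 1 ∧ (ζ ∈ Set.range (P1.sect X i) → δP ζ ≤ k) := by
  by_cases hζ : ζ ∈ Set.range (P1.sect X i)
  · obtain ⟨y, rfl⟩ := hζ
    rw [CycP1Lib.toBase_sect] at hvζ
    have := bound_base δ hX n δP hP r s k hk v hv w hw i hwi hprop hvζ hwζ
    rw [CycP1Lib.delta_sect hP]
    exact ⟨by omega, fun _ => this⟩
  · obtain ⟨y, h1, -, h3⟩ := exists_drop δ hX δP hP i hζ x hζx
    have hvy : v ⤳ y := by
      have := h1.map (CohB1.ProjSpaceOver.toBase 1 X).continuous
      rw [CycP1Lib.toBase_sect] at this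
      exact hvζ.trans this
    have := bound_base δ hX n δP hP r s k hk v hv w hw i hwi hprop hvy (hwζ.trans h1)
    exact ⟨by omega, fun h => absurd h hζ⟩

/-- The coefficient of the product on the projective line. -/
def prodCoef (v : X) (w ζ : ↥(CohB1.ProjSpaceOver 1 X)) : ℤ :=
  IntMult.mult (IntMult.ptIdeal w) ((IntMult.ptIdeal v).comap (CohB1.ProjSpaceOver.toBase 1 X)) ζ

include f hX hδ hn hP hw hwi hk hv hprop in
/-- The intersection of the fibre with a subvariety of the base, on the projective line. -/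
theorem chi_fibre_eq_sum (G : Finset ↥(CohB1.ProjSpaceOver 1 X))
    (hG : ∀ ζ, δP ζ = k + 1 → v ⤳ CohB1.ProjSpaceOver.toBase 1 X ζ → w ⤳ ζ →
      (∃ x : X, ζ ⤳ P1.sect X i x) → ζ ∈ G)
    (hG' : ∀ ζ ∈ G, δP ζ = k + 1 ∧ v ⤳ CohB1.ProjSpaceOver.toBase 1 X ζ ∧ w ⤳ ζ)
    (x : X) (hxk : δ x = k) (hvx : v ⤳ x) (hwx : w ⤳ P1.sect X i x) :
    IntMult.chi (X.presheaf.stalk x)
        (↑(X.presheaf.stalk x) ⧸ IntMult.stalkIdeal ((IntMult.ptIdeal w).comap (P1.sect X i)) x)
        (↑(X.presheaf.stalk x) ⧸ (primeOf hvx).asIdeal) =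
      ∑ ζ ∈ G, prodCoef v w ζ * Cyc.subschemeFun δ k (pullback.snd (IntMult.ptIdeal ζ).subschemeι (P1.sect X i)) x := by
  classical
  let P := CohB1.ProjSpaceOver 1 X
  let π := CohB1.ProjSpaceOver.toBase 1 X
  let sc := P1.sect X i
  haveI : IsIntegral P := isIntegral_projSpaceOver f
  haveI : Smooth π := RTrivLib.smooth_toBase 1 X
  let F := π ≫ f
  have hFd : Cyc.DeltaCompat F δP (fun _ => 0) := deltaCompat_toBase_comp f δ hδ δP hP
  have hPs := CycP1Lib.isSetup_proj hX hP
  haveI := hX.1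
  haveI := hPs.1
  have hng : δP (genericPoint P) = n + 1 := by rw [delta_genericPoint δ hX δP hP, hn]
  let p := sc x
  let A := P.presheaf.stalk p
  let O := X.presheaf.stalk x
  haveI : IsRegularLocalRing A := WeilExtLib.isRegular_stalk_smooth F p
  haveI : IsRegularLocalRing O := WeilExtLib.isRegular_stalk_smooth f x
  let t : A := P.presheaf.germ _ _ (CycP1Lib.sect_mem i x) (CycP1Lib.t X i)
  let σ : A →+* O := (sc.stalkMap x).hom
  let ρ : O →+* A := (DiagTorLib.proj sc π (CycP1Lib.sect_toBase i) x).hom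
  letI : Algebra A O := σ.toAlgebra
  letI : Algebra O A := ρ.toAlgebra
  haveI : IsScalarTower O A O := IsScalarTower.of_algebraMap_eq fun a =>
    (RingHom.congr_fun (congrArg CommRingCat.Hom.hom (DiagTorLib.proj_comp sc π (CycP1Lib.sect_toBase i) x)) a).symm
  haveI : Module.Flat O A := DiagTorLib.flat_proj sc π (CycP1Lib.sect_toBase i) x
  let Iv := (IntMult.ptIdeal v).comap π
  let I : Ideal A := IntMult.stalkIdeal Iv p
  let Pw : Ideal A := (primeOf hwx).asIdeal
  let J : Ideal O := IntMult.stalkIdeal ((IntMult.ptIdeal w).comap sc) x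
  have hPw : IntMult.stalkIdeal (IntMult.ptIdeal w) p = Pw := DiagTorLib.stalkIdeal_ptIdeal hwx
  have hJ : J = Pw.map σ := by
    show IntMult.stalkIdeal ((IntMult.ptIdeal w).comap sc) x = _
    rw [DivDescLib.stalkIdeal_comap, hPw]
  have hI : I = (primeOf hvx).asIdeal.map ρ := by
    show IntMult.stalkIdeal ((IntMult.ptIdeal v).comap π) (sc x) = _
    rw [DiagTorLib.stalkIdeal_comap_proj sc π (CycP1Lib.sect_toBase i) x, DiagTorLib.stalkIdeal_ptIdeal hvx]
  have hgen : genericPoint P ∉ Set.range sc := fun h => hwi ((sc.isClosedEmbedding.isClosed_range).stableUnderSpecialization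
    ((genericPoint_spec _).specializes trivial) h)
  let gi := sc (genericPoint X)
  have hgi : gi ⤳ p := ((genericPoint_spec X).specializes trivial).map sc.continuous
  have hD : IntMult.stalkIdeal (IntMult.ptIdeal gi) p = Ideal.span {t} := stalkIdeal_sect i x
  have htm : t ∈ IsLocalRing.maximalIdeal A := (CycP1Lib.germ_t_mem_iff (CycP1Lib.sect_mem i x)).2 ⟨x, rfl⟩
  haveI : IsDomain A := CommAlgDim.isDomain_of_isRegularLocalRing _
  have ht0 : IsSMulRegular A t := IsSMulRegular.of_ne_zero fun h0 => by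
    have h1 : genericPoint P ⤳ p := (genericPoint_spec _).specializes trivial
    exact hgen ((germ_t_mem_primeOf i x h1).1 (by
      show t ∈ _
      rw [h0]; exact zero_mem _))
  have htP : IsSMulRegular (↑A ⧸ Pw) t := by
    intro a b hab
    have hab : Ideal.Quotient.mk Pw t * a = Ideal.Quotient.mk Pw t * b := by
      simpa [Algebra.smul_def] using hab
    exact mul_left_cancel₀ (fun h' => hwi ((germ_t_mem_primeOf i x hwx).1 (Ideal.Quotient.eq_zero_iff_mem.1 h'))) hab
  -- the two points of view on the primes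
  have hvI : ∀ Q : PrimeSpectrum A, I ≤ Q.asIdeal ↔ v ⤳ π (stalkPt p Q) := fun Q => by
    rw [← IntMultRegLib.stalkPt_mem_support_iff Iv p Q]
    show stalkPt p Q ∈ ((IntMult.ptIdeal v).comap π).support ↔ _
    rw [Scheme.IdealSheafData.support_comap]
    exact DiagTorLib.mem_support_ptIdeal _ _
  have hwP : ∀ Q : PrimeSpectrum A, Pw ≤ Q.asIdeal ↔ w ⤳ stalkPt p Q := fun Q => by
    rw [← hPw, ← IntMultRegLib.stalkPt_mem_support_iff, DiagTorLib.mem_support_ptIdeal]
  have hp : ∀ Q : PrimeSpectrum A, stalkPt p Q ⤳ p := fun Q => EquidimLib.stalkPt_specializes p Q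
  have hclosed : stalkPt p (IsLocalRing.closedPoint A) = p := Scheme.fromSpecStalk_closedPoint
  have hpk : δP p = k := by rw [CycP1Lib.delta_sect hP, hxk]
  have hmax : ∀ Q : PrimeSpectrum A, I ⊔ Pw ⊔ Ideal.span {t} ≤ Q.asIdeal → Q.asIdeal.IsMaximal := by
    intro Q hQ
    have h1 := (hvI Q).1 ((le_sup_left.trans le_sup_left).trans hQ)
    have h2 := (hwP Q).1 ((le_sup_right.trans le_sup_left).trans hQ)
    have h3 : stalkPt p Q ∈ Set.range sc := (germ_t_mem_primeOf i x (hp Q)).1 (by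
      rw [DiagTorLib.primeOf_stalkPt]
      exact (le_sup_right.trans hQ) (Ideal.mem_span_singleton_self t))
    have h4 := (bound_top δ hX n δP hP r s k hk v hv w hw i hwi hprop h1 h2 (hp Q)).2 h3
    have h5 := delta_mono δP hPs (hp Q)
    have h6 : stalkPt p Q = p := h5.2 (by omega)
    obtain rfl : Q = IsLocalRing.closedPoint A := EquidimLib.stalkPt_injective p (h6.trans hclosed.symm)
    exact IsLocalRing.maximalIdeal.isMaximal _
  let I₀ := I ⊔ Pw
  have hle : ∀ Q : PrimeSpectrum A, I₀ ≤ Q.asIdeal → δP (stalkPt p Q) ≤ k + 1 := fun Q hQ =>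
    (bound_top δ hX n δP hP r s k hk v hv w hw i hwi hprop ((hvI Q).1 (le_sup_left.trans hQ))
      ((hwP Q).1 (le_sup_right.trans hQ)) (hp Q)).1
  let T := (G.preimage (stalkPt p) (EquidimLib.stalkPt_injective p).injOn)
  have hT : ∀ Q, Q ∈ T ↔ I₀ ≤ Q.asIdeal ∧ δP (stalkPt p Q) = k + 1 := fun Q => by
    rw [Finset.mem_preimage]
    constructor
    · intro h
      obtain ⟨a, b, c⟩ := hG' _ h
      exact ⟨sup_le ((hvI Q).2 b) ((hwP Q).2 c), a⟩
    · rintro ⟨a, b⟩
      exact hG _ b ((hvI Q).1 (le_sup_left.trans a)) ((hwP Q).1 (le_sup_right.trans a)) ⟨x, hp Q⟩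
  have hmin : ∀ Q ∈ T, ∀ R : PrimeSpectrum A, I₀ ≤ R.asIdeal → R.asIdeal ≤ Q.asIdeal → R = Q := by
    intro Q hQ R hR hRQ
    have h1 := delta_mono δP hPs (EquidimLib.specializes_stalkPt (x := p) (show R ≤ Q from hRQ))
    have h2 := hle R hR
    have h3 := ((hT Q).1 hQ).2
    exact EquidimLib.stalkPt_injective p (h1.2 (by omega))
  have hzero : ∀ Q : PrimeSpectrum A, I₀ ≤ Q.asIdeal → Q ∉ T →
      IntMult.chi A (↑A ⧸ Q.asIdeal) (↑A ⧸ Ideal.span {t}) = 0 := by
    intro Q hQ hQT
    have h1 := delta_mono δP hPs (hp Q)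
    have h2 := hle Q hQ
    have h3 : δP (stalkPt p Q) ≠ k + 1 := fun e => hQT ((hT Q).2 ⟨hQ, e⟩)
    obtain rfl : Q = IsLocalRing.closedPoint A :=
      EquidimLib.stalkPt_injective p ((h1.2 (by omega)).trans hclosed.symm)
    have e : Ideal.span {t} = (primeOf hgi).asIdeal := by rw [← hD, DiagTorLib.stalkIdeal_ptIdeal hgi]
    rw [e]
    refine DiagTorLib.chi_primes_eq_zero F δP hFd (n + 1) hng _ _ (fun ω h4 _ h6 => ?_) ?_
    · rw [hclosed] at h4
      exact (h6.antisymm h4).eq
    · have h8 : δP gi = n := (CycP1Lib.delta_sect hP i _).trans hn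
      rw [hclosed, stalkPt_primeOf, h8, hpk]
      omega
  -- the passage to the line
  let W' := (↑A ⧸ Ideal.span {t})
  have hσs : Function.Surjective σ := sc.stalkMap_surjective x
  have hker : RingHom.ker σ = Ideal.span {t} := CycP1Lib.ker_stalkMap_sect i x
  have e1 : Nonempty ((↑A ⧸ (Pw ⊔ Ideal.span {t})) ≃ₗ[A] (↑O ⧸ J)) := by
    let g : ↑A →ₗ[A] (↑O ⧸ J) := Algebra.linearMap A (↑O ⧸ J)
    have hg : Function.Surjective g := Ideal.Quotient.mk_surjective.comp hσs
    have hk' : LinearMap.ker g = Pw ⊔ Ideal.span {t} := by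
      rw [← hker, RingHom.ker_eq_comap_bot, ← Ideal.comap_map_of_surjective σ hσs, ← hJ]
      ext b
      exact Ideal.Quotient.eq_zero_iff_mem
    exact ⟨(Submodule.quotEquivOfEq _ _ hk'.symm).trans (LinearMap.quotKerEquivOfSurjective g hg)⟩
  have e2 : Nonempty ((↑A ⧸ I) ≃ₗ[A] A ⊗[O] (↑O ⧸ (primeOf hvx).asIdeal)) :=
    ⟨(Submodule.quotEquivOfEq _ _ hI).trans (Ideal.qoutMapEquivTensorQout A)⟩
  obtain ⟨e1⟩ := e1
  obtain ⟨e2⟩ := e2
  have key := DiagTorLib.assoc_stalk F p Iv (↑A ⧸ Pw) W' fun Q hQ => hmax Q (by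
    rw [Ideal.annihilator_quotient, Ideal.annihilator_quotient] at hQ
    rw [sup_assoc]
    exact hQ)
  rw [finsum_chi_tor_principal _ Pw t htm ht0 htP] at key
  rw [finsum_chi_tor_eq_sum (↑A ⧸ IntMult.stalkIdeal Iv p) (↑A ⧸ Pw) W' I₀
    (by rw [Ideal.annihilator_quotient, Ideal.annihilator_quotient])
    (fun Q hQ => hmax Q (by rwa [Ideal.annihilator_quotient] at hQ)) T hmin hzero] at key
  rw [IntMultRegLib.chi_comm, ← chi_baseChange_section (O := O) (A := A) _ J, ← DiagTorLib.chi_congr₂ e2 e1]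
  refine key.trans ?_
  rw [← Finset.sum_filter_add_sum_filter_not G (fun ζ => ζ ⤳ p), Finset.sum_eq_zero (s := G.filter fun ζ => ¬ζ ⤳ p)
    (fun ζ hζ => ?_), add_zero]
  · refine Finset.sum_bij (fun Q _ => stalkPt p Q) (fun Q hQ => ?_) (fun a _ b _ e => EquidimLib.stalkPt_injective p e)
      (fun ζ hζ => ?_) fun Q hQ => ?_
    · exact Finset.mem_filter.2 ⟨Finset.mem_preimage.1 hQ, hp Q⟩
    · obtain ⟨hζG, hζp⟩ := Finset.mem_filter.1 hζ
      obtain ⟨Q, rfl⟩ := EquidimLib.exists_stalkPt hζp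
      exact ⟨Q, Finset.mem_preimage.2 hζG, rfl⟩
    · obtain ⟨hQ1, hQ2⟩ := (hT Q).1 hQ
      have hmult : prodCoef v w (stalkPt p Q) = ∑ᶠ q : ℕ, (-1 : ℤ) ^ q *
          ((IntMultRegLib.lenAt Q (DRing.Tor A q (↑A ⧸ IntMult.stalkIdeal Iv p) (↑A ⧸ Pw))).toNat : ℤ) := by
        show IntMult.mult (IntMult.ptIdeal w) Iv (stalkPt p Q) = _
        rw [← hPw, finsum_lenAt_tor]
      have hnr : stalkPt p Q ∉ Set.range sc := fun h => by
        have := (bound_top δ hX n δP hP r s k hk v hv w hw i hwi hprop ((hvI Q).1 (le_sup_left.trans hQ1))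
          ((hwP Q).1 (le_sup_right.trans hQ1)) (hp Q)).2 h
        omega
      rw [← hmult, ← mult_eq_subschemeFun (fun q => inferInstance) δ hX δP hP i hnr k x hxk (hp Q)]
      congr 1
      rw [IntMult.mult, stalkIdeal_sect, DiagTorLib.stalkIdeal_ptIdeal (hp Q), DiagTorLib.primeOf_stalkPt,
        IntMultRegLib.chi_comm]
  · obtain ⟨hζG, hζp⟩ := Finset.mem_filter.1 hζ
    rw [show Cyc.subschemeFun δ k (pullback.snd (IntMult.ptIdeal ζ).subschemeι sc) x = 0 from ?_, mul_zero]
    simp only [Cyc.subschemeFun, if_pos hxk]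
    rw [show {u : ↥(pullback (IntMult.ptIdeal ζ).subschemeι sc) |
        pullback.snd (IntMult.ptIdeal ζ).subschemeι sc u = x} = ∅ from
      Set.eq_empty_of_forall_notMem fun u (hu : pullback.snd _ sc u = x) => hζp ?_, finsum_mem_empty]
    refine (DiagTorLib.mem_support_ptIdeal _ _).1 ?_
    rw [← SetLike.mem_coe, ← Scheme.IdealSheafData.range_subschemeι]
    exact ⟨pullback.fst _ sc u, by rw [← Scheme.Hom.comp_apply, pullback.condition, Scheme.Hom.comp_apply, hu]⟩

include f hX hδ hn hP hw hwi hk hv hprop in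
/-- The product with the fibre, from the product on the projective line. -/
theorem interProd_fibre (G : Finset ↥(CohB1.ProjSpaceOver 1 X))
    (hG : ∀ ζ, δP ζ = k + 1 → v ⤳ CohB1.ProjSpaceOver.toBase 1 X ζ → w ⤳ ζ →
      (∃ x : X, ζ ⤳ P1.sect X i x) → ζ ∈ G)
    (hG' : ∀ ζ ∈ G, δP ζ = k + 1 ∧ v ⤳ CohB1.ProjSpaceOver.toBase 1 X ζ ∧ w ⤳ ζ) (x : X) :
    IntMult.interProd δ n (single v) (fibFun δ s w i) x =
      ∑ ζ ∈ G, prodCoef v w ζ * Cyc.subschemeFun δ k (pullback.snd (IntMult.ptIdeal ζ).subschemeι (P1.sect X i)) x := by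
  classical
  haveI := hX.1
  haveI := (CycP1Lib.isSetup_proj hX hP).1
  let Jw := (IntMult.ptIdeal w).comap (P1.sect X i)
  have hle : ∀ u ∈ Jw.support, δ u ≤ s := fun u hu => fib_le δ hX δP hP s w hw i hwi ((mem_supp_fib w i u).1 hu)
  have hfs : ∀ u, fibFun δ s w i u ≠ 0 → u ∈ Jw.support ∧ δ u = s := by
    intro u hu
    simp only [fibFun] at hu
    split_ifs at hu with hd
    swap
    · exact absurd rfl hu
    refine ⟨?_, hd⟩
    by_contra hno
    have htop : IntMult.stalkIdeal Jw u = ⊤ := by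
      by_contra hne
      refine hno ?_
      have hy := (IntMultRegLib.stalkPt_mem_support_iff Jw u (IsLocalRing.closedPoint _)).2
        (IsLocalRing.le_maximalIdeal hne)
      rwa [show stalkPt u (IsLocalRing.closedPoint (X.presheaf.stalk u)) = u from
        Scheme.fromSpecStalk_closedPoint] at hy
    haveI : Subsingleton (↑(X.presheaf.stalk u) ⧸ IntMult.stalkIdeal Jw u) := Ideal.Quotient.subsingleton_iff.2 htop
    exact hu (by rw [Module.length_eq_zero]; rfl)
  by_cases hgood : δ x = k ∧ v ⤳ x ∧ w ⤳ P1.sect X i x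
  swap
  · have h0 : IntMult.interProd δ n (single v) (fibFun δ s w i) x = 0 := by
      refine finsum_eq_zero_of_forall_eq_zero fun q => ?_
      by_cases h1 : q.1.1 = v
      · by_cases h2 : fibFun δ s w i q.1.2 = 0
        · rw [h2, mul_zero, zero_mul]
        · obtain ⟨h3, h4⟩ := hfs _ h2
          have h5 := q.2.2.2
          rw [h1, hv, h4] at h5
          exact absurd ⟨by omega, h1 ▸ q.2.1, ((mem_supp_fib w i _).1 h3).trans
            (q.2.2.1.map (P1.sect X i).continuous)⟩ hgood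
      · rw [single_ne _ _ h1, zero_mul, zero_mul]
    rw [h0]
    refine (Finset.sum_eq_zero fun ζ hζ => ?_).symm
    simp only [Cyc.subschemeFun]
    split_ifs with hd
    swap
    · exact mul_zero _
    rw [show {u : ↥(pullback (IntMult.ptIdeal ζ).subschemeι (P1.sect X i)) |
        pullback.snd (IntMult.ptIdeal ζ).subschemeι (P1.sect X i) u = x} = ∅ from
      Set.eq_empty_of_forall_notMem fun u (hu : pullback.snd _ (P1.sect X i) u = x) => hgood ?_, finsum_mem_empty,
      mul_zero]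
    have hζx : ζ ⤳ P1.sect X i x := by
      refine (DiagTorLib.mem_support_ptIdeal _ _).1 ?_
      rw [← SetLike.mem_coe, ← Scheme.IdealSheafData.range_subschemeι]
      exact ⟨pullback.fst _ (P1.sect X i) u, by
        rw [← Scheme.Hom.comp_apply, pullback.condition, Scheme.Hom.comp_apply, hu]⟩
    obtain ⟨-, hb, hc⟩ := hG' ζ hζ
    refine ⟨hd, ?_, hc.trans hζx⟩
    have := hζx.map (CohB1.ProjSpaceOver.toBase 1 X).continuous
    rw [CycP1Lib.toBase_sect] at this
    exact hb.trans this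
  obtain ⟨hxk, hvx, hwx⟩ := hgood
  rw [← chi_fibre_eq_sum f δ hX hδ n hn δP hP r s k hk v hv w hw i hwi hprop G hG hG' x hxk hvx hwx]
  haveI : IsRegularLocalRing (X.presheaf.stalk x) := WeilExtLib.isRegular_stalk_smooth f x
  let O := X.presheaf.stalk x
  let J : Ideal O := IntMult.stalkIdeal Jw x
  let S := (DiagTorLib.finite_top_points δ hX Jw s hle x).toFinset
  let T := S.preimage (stalkPt x) (EquidimLib.stalkPt_injective x).injOn
  have hT : ∀ Q, Q ∈ T ↔ J ≤ Q.asIdeal ∧ δ (stalkPt x Q) = s := fun Q => by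
    rw [Finset.mem_preimage, Set.Finite.mem_toFinset, Set.mem_setOf_eq, IntMultRegLib.stalkPt_mem_support_iff]
    exact ⟨fun h => h.2, fun h => ⟨EquidimLib.stalkPt_specializes x Q, h⟩⟩
  have hone : ∀ ω, v ⤳ ω → w ⤳ P1.sect X i ω → ω ⤳ x → ω = x := fun ω h1 h2 h3 => by
    have h4 := bound_base δ hX n δP hP r s k hk v hv w hw i hwi hprop h1 h2
    have h5 := delta_mono δ hX h3
    exact h5.2 (by omega)
  have hsupp : ∀ Q : PrimeSpectrum O, J ≤ Q.asIdeal → w ⤳ P1.sect X i (stalkPt x Q) := fun Q hQ =>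
    (mem_supp_fib w i _).1 ((IntMultRegLib.stalkPt_mem_support_iff _ x Q).2 hQ)
  rw [IntMultRegLib.chi_eq_sum (↑O ⧸ (primeOf hvx).asIdeal) J (fun Q hQ => ?_) T (fun Q hQ R hR hRQ => ?_)
    (fun Q hQ hQT => ?_) (↑O ⧸ J) fun Q hQ => by rwa [Ideal.annihilator_quotient] at hQ]
  · rw [DiagTorLib.interProd_eq_sum δ n (single v) (fibFun δ s w i) x {v} S
      (fun y _ h => Finset.mem_singleton.2 (not_not.1 fun h' => h (single_ne _ _ h')))
      (fun y h1 h => (Set.Finite.mem_toFinset _).2 ⟨h1, hfs y h⟩), Finset.sum_product, Finset.sum_singleton]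
    refine (Finset.sum_bij (fun Q _ => stalkPt x Q) (fun Q hQ => Finset.mem_preimage.1 hQ)
      (fun a _ b _ e => EquidimLib.stalkPt_injective x e) (fun y hy => ?_) fun Q hQ => ?_).symm
    · obtain ⟨Q, rfl⟩ := EquidimLib.exists_stalkPt ((Set.Finite.mem_toFinset _).1 hy).1
      exact ⟨Q, Finset.mem_preimage.2 hy, rfl⟩
    · obtain ⟨hQ1, hQ2⟩ := (hT Q).1 hQ
      rw [Set.indicator_of_mem (show (v, stalkPt x Q) ∈ {p : X × X | p.1 ⤳ x ∧ p.2 ⤳ x ∧ δ p.1 + δ p.2 - n = δ x} from
        ⟨hvx, EquidimLib.stalkPt_specializes x Q, by show δ v + δ (stalkPt x Q) - n = δ x; omega⟩), single_self,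
        one_mul, lenAt_stalkQuot]
      simp only [fibFun, if_pos hQ2]
      rw [IntMult.mult, DiagTorLib.stalkIdeal_ptIdeal hvx,
        DiagTorLib.stalkIdeal_ptIdeal (EquidimLib.stalkPt_specializes x Q), DiagTorLib.primeOf_stalkPt]
  · rw [Ideal.annihilator_quotient] at hQ
    have h1 : v ⤳ stalkPt x Q := by
      have := EquidimLib.specializes_stalkPt (x := x) (show primeOf hvx ≤ Q from le_sup_right.trans hQ)
      rwa [stalkPt_primeOf] at this
    obtain rfl : Q = IsLocalRing.closedPoint O := EquidimLib.stalkPt_injective x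
      ((hone _ h1 (hsupp Q (le_sup_left.trans hQ)) (EquidimLib.stalkPt_specializes x Q)).trans
        Scheme.fromSpecStalk_closedPoint.symm)
    exact IsLocalRing.maximalIdeal.isMaximal _
  · have h1 := delta_mono δ hX (EquidimLib.specializes_stalkPt (x := x) (show R ≤ Q from hRQ))
    have h2 := hle _ ((IntMultRegLib.stalkPt_mem_support_iff _ x R).2 hR)
    have h3 := ((hT Q).1 hQ).2
    exact EquidimLib.stalkPt_injective x (h1.2 (by omega))
  · refine DiagTorLib.chi_primes_eq_zero f δ hδ n hn Q (primeOf hvx) (fun ω h1 h2 h3 => ?_) ?_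
    · rw [stalkPt_primeOf] at h2
      exact hone ω h2 ((hsupp Q hQ).trans (h1.map (P1.sect X i).continuous)) h3
    · have h1 : δ (stalkPt x Q) ≠ s := fun e => hQT ((hT Q).2 ⟨hQ, e⟩)
      have h2 := hle _ ((IntMultRegLib.stalkPt_mem_support_iff _ x Q).2 hQ)
      rw [stalkPt_primeOf]
      omega

end Main

end P1InterLib
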