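import Groth.Agent.P1InterLib.FibreProd

/-!
# Rational equivalence of the products with the two fibres
-/

set_option autoImplicit false
set_option backward.isDefEq.respectTransparency false
set_option backward.isDefEq.respectTransparency.types false
set_option linter.style.haveILetI false

universe u

open CategoryTheory CategoryTheory.Limits AlgebraicGeometry TopologicalSpace Topology
open DiagTorLib (single single_self single_ne)

noncomputable section

namespace P1InterLib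

theorem subschemeFun_fibre {X W : Scheme.{u}} [IsIntegral W] (δ : X → ℤ) (s : ℤ)
    (ιW : W ⟶ CohB1.ProjSpaceOver 1 X) [IsClosedImmersion ιW] (i : Fin (1 + 1)) :
    Cyc.subschemeFun δ s (pullback.snd ιW (P1.sect X i)) = fibFun δ s (ιW (genericPoint W)) i := by
  have hker : (pullback.snd ιW (P1.sect X i)).ker = (IntMult.ptIdeal (ιW (genericPoint W))).comap (P1.sect X i) := by
    rw [← pullbackSymmetry_hom_comp_fst, Scheme.Hom.ker_comp_of_isIso,
      Scheme.IdealSheafData.ker_fst_of_isClosedImmersion, ker_eq_ptIdeal]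
  funext u
  rw [subschemeFun_closedImmersion, hker]
  rfl

variable {K : Type u} [Field K] [IsAlgClosed K] {X : Scheme.{u}} (f : X ⟶ Spec (CommRingCat.of K)) [Smooth f]
  [IsSeparated f] [QuasiCompact f] [IsIntegral X] (δ : X → ℤ) (hX : Cyc.IsSetup X δ)
  (hδ : Cyc.DeltaCompat f δ (fun _ => 0)) (n : ℤ) (hn : δ (genericPoint X) = n)
  (δP : ↥(CohB1.ProjSpaceOver 1 X) → ℤ) (hP : Cyc.DeltaCompat (CohB1.ProjSpaceOver.toBase 1 X) δP δ)

omit [IsAlgClosed K] [Smooth f] [IsSeparated f] [QuasiCompact f] [IsIntegral X] in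
/-- A subscheme dominating the line lies in neither section. -/
theorem not_mem_sect_of_dominant {W : Scheme.{u}} [IsIntegral W] (ιW : W ⟶ CohB1.ProjSpaceOver 1 X)
    (hdom : ∀ U : (CohB1.ProjSpaceOver 1 (Spec (CommRingCat.of K))).Opens,
      (U : Set ↥(CohB1.ProjSpaceOver 1 (Spec (CommRingCat.of K)))).Nonempty → ∃ w : W, (ιW ≫ P1.toP1 f) w ∈ U)
    (i : Fin (1 + 1)) : ιW (genericPoint W) ∉ Set.range (P1.sect X i) := by
  intro h
  let S := Spec (CommRingCat.of K)
  have hcomp : P1.sect X i ≫ P1.toP1 f = f ≫ P1.sect S i := by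
    apply pullback.hom_ext
    · rw [Category.assoc, Category.assoc,
        show P1.toP1 f ≫ pullback.fst _ _ = pullback.fst _ _ from
          (pullback.lift_fst _ _ _).trans (Category.comp_id _),
        show P1.sect X i ≫ pullback.fst _ _ = specULiftZIsTerminal.from X ≫ P1.point i from pullback.lift_fst _ _ _,
        show P1.sect S i ≫ pullback.fst _ _ = specULiftZIsTerminal.from S ≫ P1.point i from pullback.lift_fst _ _ _,
        ← Category.assoc, specULiftZIsTerminal.hom_ext (f ≫ specULiftZIsTerminal.from S)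
          (specULiftZIsTerminal.from X)]
    · rw [Category.assoc, Category.assoc,
        show P1.toP1 f ≫ pullback.snd _ _ = pullback.snd _ _ ≫ f from pullback.lift_snd _ _ _,
        show P1.sect S i ≫ pullback.snd _ _ = 𝟙 S from pullback.lift_snd _ _ _, ← Category.assoc,
        show P1.sect X i ≫ pullback.snd _ _ = 𝟙 X from pullback.lift_snd _ _ _, Category.id_comp, Category.comp_id]
  let U : (CohB1.ProjSpaceOver 1 S).Opens :=
    ⟨(Set.range (P1.sect S i))ᶜ, (P1.sect S i).isClosedEmbedding.isClosed_range.isOpen_compl⟩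
  obtain ⟨z, hz⟩ : (U : Set ↥(CohB1.ProjSpaceOver 1 S)).Nonempty := by
    refine ⟨P1.sect S i.rev (IsLocalRing.closedPoint K), ?_⟩
    intro hmem
    refine CycP1Lib.not_mem_both (i := i.rev) (p := P1.sect S i.rev (IsLocalRing.closedPoint K)) ⟨_, rfl⟩ ?_
    rw [Fin.rev_rev]
    exact hmem
  obtain ⟨w, hw⟩ := hdom U ⟨z, hz⟩
  obtain ⟨x, hx⟩ : ιW w ∈ Set.range (P1.sect X i) := (P1.sect X i).isClosedEmbedding.isClosed_range.stableUnderSpecialization
    (((genericPoint_spec W).specializes trivial).map ιW.continuous) h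
  refine hw ⟨f x, ?_⟩
  rw [← Scheme.Hom.comp_apply, ← hcomp, Scheme.Hom.comp_apply, hx, Scheme.Hom.comp_apply]

include f hX hδ hn hP in
/-- Products with the fibres over zero and infinity are rationally equivalent. -/
theorem ratEquiv_interProd_fibres (r s : ℤ) (v : X) (hv : δ v = r) (w : ↥(CohB1.ProjSpaceOver 1 X))
    (hw : δP w = s + 1) (hwi : ∀ i, w ∉ Set.range (P1.sect X i))
    (hprop : ∀ i, IntMult.IntersectProperly δ n (single v) (fibFun δ s w i))
    (γ₀ γ₁ : AlgebraicCycle X ℤ) (hγ₀ : ⇑γ₀ = IntMult.interProd δ n (single v) (fibFun δ s w 0))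
    (hγ₁ : ⇑γ₁ = IntMult.interProd δ n (single v) (fibFun δ s w 1)) :
    Cyc.RatEquiv δ (r + s - n) γ₀ γ₁ := by
  classical
  haveI := hX.1
  have hPs := CycP1Lib.isSetup_proj hX hP
  haveI := hPs.1
  haveI : CompactSpace X := QuasiCompact.compactSpace_of_compactSpace f
  let π := CohB1.ProjSpaceOver.toBase 1 X
  haveI : CompactSpace ↥(CohB1.ProjSpaceOver 1 X) := QuasiCompact.compactSpace_of_compactSpace π
  let k := r + s - n
  let IZ := IntMult.ptIdeal w ⊔ (IntMult.ptIdeal v).comap π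
  let Good : Set ↥(CohB1.ProjSpaceOver 1 X) :=
    {ζ | δP ζ = k + 1 ∧ v ⤳ π ζ ∧ w ⤳ ζ ∧ ∃ (j : Fin (1 + 1)) (x : X), ζ ⤳ P1.sect X j x}
  have hfin : Good.Finite := by
    haveI : IsNoetherian (CohB1.ProjSpaceOver 1 X) := { }
    haveI : NoetherianSpace ↥IZ.subscheme := IZ.subschemeι.isClosedEmbedding.isInducing.noetherianSpace
    have hmem : ∀ ζ, ζ ∈ Set.range IZ.subschemeι ↔ w ⤳ ζ ∧ v ⤳ π ζ := fun ζ => by
      rw [Scheme.IdealSheafData.range_subschemeι]
      show ζ ∈ IZ.support ↔ _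
      rw [Scheme.IdealSheafData.support_sup, ← DiagTorLib.mem_support_ptIdeal w ζ,
        ← DiagTorLib.mem_support_ptIdeal v (π ζ)]
      rw [Scheme.IdealSheafData.support_comap]
      rfl
    refine ((NoetherianSpace.finite_irreducibleComponents (α := ↥IZ.subscheme)).preimage
      (f := fun u => closure ({u} : Set ↥IZ.subscheme)) fun a _ b _ hab => ?_).image IZ.subschemeι |>.subset ?_
    · have hab : closure ({a} : Set ↥IZ.subscheme) = closure {b} := hab
      exact ((specializes_iff_mem_closure.2 (hab.symm.le (subset_closure rfl))).antisymm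
        (specializes_iff_mem_closure.2 (hab.le (subset_closure rfl)))).eq
    rintro ζ ⟨hd, hvζ, hwζ, j, x, hζx⟩
    obtain ⟨u, rfl⟩ := (hmem ζ).2 ⟨hwζ, hvζ⟩
    refine ⟨u, ⟨isIrreducible_singleton.closure, fun T hT hle' => ?_⟩, rfl⟩
    obtain ⟨g, hg⟩ := QuasiSober.sober hT.closure isClosed_closure
    have hgu : g ⤳ u := by
      rw [hg.specializes_iff_mem]
      exact subset_closure (hle' (subset_closure rfl))
    have : g = u := by
      obtain ⟨hw', hv'⟩ := (hmem _).1 ⟨g, rfl⟩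
      have h1 := (bound_top δ hX n δP hP r s k rfl v hv w hw j (hwi j) (hprop j) hv' hw'
        ((hgu.map IZ.subschemeι.continuous).trans hζx)).1
      have h2 := delta_mono δP hPs (hgu.map IZ.subschemeι.continuous)
      exact IZ.subschemeι.isClosedEmbedding.injective (h2.2 (by omega))
    subst this
    exact subset_closure.trans hg.def.ge
  let G := hfin.toFinset
  have hG : ∀ i ζ, δP ζ = k + 1 → v ⤳ π ζ → w ⤳ ζ → (∃ x : X, ζ ⤳ P1.sect X i x) → ζ ∈ G :=
    fun i ζ h1 h2 h3 h4 => hfin.mem_toFinset.2 ⟨h1, h2, h3, i, h4⟩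
  have hG' : ∀ ζ ∈ G, δP ζ = k + 1 ∧ v ⤳ π ζ ∧ w ⤳ ζ := fun ζ h =>
    ⟨(hfin.mem_toFinset.1 h).1, (hfin.mem_toFinset.1 h).2.1, (hfin.mem_toFinset.1 h).2.2.1⟩
  have hnot : ∀ i, ∀ ζ ∈ G, ζ ∉ Set.range (P1.sect X i) := by
    rintro i ζ hζ ⟨y, rfl⟩
    obtain ⟨h1, h2, h3⟩ := hG' _ hζ
    have := (bound_top δ hX n δP hP r s k rfl v hv w hw i (hwi i) (hprop i) h2 h3 (x := y) specializes_rfl).2 ⟨y, rfl⟩
    omega
  have hcyc : ∀ i ζ, ζ ∈ G → ∃ c : AlgebraicCycle X ℤ,
      ⇑c = Cyc.subschemeFun δ k (pullback.snd (IntMult.ptIdeal ζ).subschemeι (P1.sect X i)) :=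
    fun i ζ h => exists_fibreCycle δ hX δP hP ζ i k (hG' ζ h).1 (hnot i ζ h)
  choose c hc using hcyc
  let c' : Fin (1 + 1) → ↥(CohB1.ProjSpaceOver 1 X) → AlgebraicCycle X ℤ := fun i ζ =>
    if h : ζ ∈ G then c i ζ h else 0
  have hsum : γ₀ - γ₁ = ∑ ζ ∈ G, prodCoef v w ζ • (c' 0 ζ - c' 1 ζ) := by
    refine DFunLike.ext _ _ fun x => ?_
    show γ₀ x - γ₁ x = _
    rw [hγ₀, hγ₁, interProd_fibre f δ hX hδ n hn δP hP r s k rfl v hv w hw 0 (hwi 0) (hprop 0) G (hG 0) hG' x,
      interProd_fibre f δ hX hδ n hn δP hP r s k rfl v hv w hw 1 (hwi 1) (hprop 1) G (hG 1) hG' x,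
      CycPBLib.Bun.cyc_sum_apply, ← Finset.sum_sub_distrib]
    refine Finset.sum_congr rfl fun ζ hζ => ?_
    rw [CycPBLib.smul_apply, show (c' 0 ζ - c' 1 ζ) x = c' 0 ζ x - c' 1 ζ x from rfl,
      show c' 0 ζ = c 0 ζ hζ from dif_pos hζ, show c' 1 ζ = c 1 ζ hζ from dif_pos hζ, hc, hc, mul_sub]
  show Cyc.RatEquivZero δ (r + s - n) (γ₀ - γ₁)
  rw [hsum]
  refine CycPBLib.Bun.ratEquivZero_finset_sum hX G _ fun ζ hζ => CycPBLib.ratEquivZero_smul hX _ ?_
  rw [show c' 0 ζ = c 0 ζ hζ from dif_pos hζ, show c' 1 ζ = c 1 ζ hζ from dif_pos hζ]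
  haveI : IsIntegral (IntMult.ptIdeal ζ).subscheme := NagataFG.isIntegral_closure ζ
  have hg := subschemeι_genericPoint ζ
  refine Groth.Agent.S1900.result X δ hX δP hP k (IntMult.ptIdeal ζ).subscheme (IntMult.ptIdeal ζ).subschemeι ?_
    (by rw [hg]; exact hnot 0 ζ hζ) (by rw [hg]; exact hnot 1 ζ hζ) _ _ (hc 0 ζ hζ) (hc 1 ζ hζ)
  rw [hg]
  exact (hG' ζ hζ).1

end P1InterLib
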