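import Groth.Agent.DiagTorLib.DiagProd
import Groth.Agent.DiagTorLib.CMProd
import Groth.Agent.CycP1Lib.Subscheme
import Groth.Agent.S1900
import Groth.Agent.CycSeqLib.Envelope
import Groth.Agent.AlgSpRegLib.ImageReduced
import Groth.Agent.CycPBLib.Main
import Groth.Agent.CycPBLib.Chern
import Groth.Agent.IntMultRegLib.Algebra
import Groth.Prelude.Def_IntMult

/-!
# Intersection with the sections `0` and `∞` of the projective line
-/

set_option autoImplicit false
set_option backward.isDefEq.respectTransparency false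
set_option backward.isDefEq.respectTransparency.types false
set_option linter.style.haveILetI false

universe u

open CategoryTheory CategoryTheory.Limits AlgebraicGeometry TopologicalSpace Topology
open CycDivLib (primeOf stalkPt_primeOf)
open DiagTorLib (single single_self single_ne)

noncomputable section

namespace P1InterLib

variable {X : Scheme.{u}}

/-- Being on a section, for a generalization. -/
theorem germ_t_mem_primeOf {v : ↥(CohB1.ProjSpaceOver 1 X)} (i : Fin (1 + 1)) (x : X) (h : v ⤳ P1.sect X i x) :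
    (CohB1.ProjSpaceOver 1 X).presheaf.germ _ _ (CycP1Lib.sect_mem i x) (CycP1Lib.t X i) ∈ (primeOf h).asIdeal ↔
      v ∈ Set.range (P1.sect X i) := by
  rw [← CycP1Lib.germ_t_mem_iff (h.mem_open (CycP1Lib.chartOpen X i).2 (CycP1Lib.sect_mem i x))]
  show ((CohB1.ProjSpaceOver 1 X).presheaf.stalkSpecializes h).hom
    ((CohB1.ProjSpaceOver 1 X).presheaf.germ _ _ (CycP1Lib.sect_mem i x) (CycP1Lib.t X i)) ∈
      IsLocalRing.maximalIdeal ((CohB1.ProjSpaceOver 1 X).presheaf.stalk v) ↔ _
  rw [show ((CohB1.ProjSpaceOver 1 X).presheaf.stalkSpecializes h).hom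
      ((CohB1.ProjSpaceOver 1 X).presheaf.germ _ _ (CycP1Lib.sect_mem i x) (CycP1Lib.t X i)) =
      (CohB1.ProjSpaceOver 1 X).presheaf.germ _ v (h.mem_open (CycP1Lib.chartOpen X i).2 (CycP1Lib.sect_mem i x)) (CycP1Lib.t X i) from
    TopCat.Presheaf.germ_stalkSpecializes_apply _ _ h _]

variable [IsIntegral X]

theorem ker_sect (i : Fin (1 + 1)) :
    (P1.sect X i).ker = IntMult.ptIdeal (P1.sect X i (genericPoint X)) := by
  rw [AlgSpRegLib.ker_eq_vanishingIdeal, IntMult.ptIdeal]
  congr 1
  refine Closeds.ext ?_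
  rw [Closeds.coe_closure]
  show closure (Set.range (P1.sect X i)) = closure {P1.sect X i (genericPoint X)}
  refine le_antisymm (closure_minimal ?_ isClosed_closure) (closure_mono (Set.singleton_subset_iff.2 ⟨_, rfl⟩))
  rintro _ ⟨y, rfl⟩
  exact specializes_iff_mem_closure.1 (((genericPoint_spec X).specializes trivial).map (P1.sect X i).continuous)

theorem stalkIdeal_sect (i : Fin (1 + 1)) (x : X) :
    IntMult.stalkIdeal (IntMult.ptIdeal (P1.sect X i (genericPoint X))) (P1.sect X i x) =
      Ideal.span {(CohB1.ProjSpaceOver 1 X).presheaf.germ _ _ (CycP1Lib.sect_mem i x) (CycP1Lib.t X i)} := by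
  rw [← ker_sect, DiagTorLib.stalkIdeal_ker, CycP1Lib.ker_stalkMap_sect]

variable (hdom : ∀ p : ↥(CohB1.ProjSpaceOver 1 X), IsDomain ((CohB1.ProjSpaceOver 1 X).presheaf.stalk p))
  (δ : X → ℤ) (hX : Cyc.IsSetup X δ) (δP : ↥(CohB1.ProjSpaceOver 1 X) → ℤ)
  (hP : Cyc.DeltaCompat (CohB1.ProjSpaceOver.toBase 1 X) δP δ) (n : ℤ) (hn : δ (genericPoint X) = n)

theorem length_ring_quotBot (R : Type u) [CommRing R] :
    Module.length R (R ⧸ (⊥ : Ideal R)) = Module.length R R :=
  (Submodule.quotEquivOfEqBot (⊥ : Ideal R) rfl).length_eq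

include hdom hX hP in
/-- The intersection number with a section is the multiplicity of the fibre. -/
theorem mult_eq_subschemeFun {v : ↥(CohB1.ProjSpaceOver 1 X)} (i : Fin (1 + 1)) (hv : v ∉ Set.range (P1.sect X i)) (k : ℤ)
    (x : X) (hx : δ x = k) (h : v ⤳ P1.sect X i x) :
    IntMult.mult (IntMult.ptIdeal v) (IntMult.ptIdeal (P1.sect X i (genericPoint X))) (P1.sect X i x) =
      Cyc.subschemeFun δ k (pullback.snd (IntMult.ptIdeal v).subschemeι (P1.sect X i)) x := by
  haveI := (CycP1Lib.isSetup_proj hX hP).1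
  let ι := (IntMult.ptIdeal v).subschemeι
  let A := (CohB1.ProjSpaceOver 1 X).presheaf.stalk (P1.sect X i x)
  let φ : A := (CohB1.ProjSpaceOver 1 X).presheaf.germ _ _ (CycP1Lib.sect_mem i x) (CycP1Lib.t X i)
  have hφ : φ ∉ (primeOf h).asIdeal := fun h' => hv ((germ_t_mem_primeOf i x h).1 h')
  have hw : RingTheory.Sequence.IsWeaklyRegular A (List.ofFn ![φ]) := by
    rw [show List.ofFn ![φ] = [φ] by simp [List.ofFn_succ]]
    refine (RingTheory.Sequence.isWeaklyRegular_cons_iff _ φ []).2 ⟨?_, RingTheory.Sequence.IsWeaklyRegular.nil _ _⟩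
    haveI : IsDomain A := hdom _
    exact IsSMulRegular.of_ne_zero fun h0 => hφ (h0 ▸ zero_mem _)
  have hM : RingTheory.Sequence.IsWeaklyRegular (↑A ⧸ (primeOf h).asIdeal) (List.ofFn ![φ]).reverse := by
    rw [show List.ofFn ![φ] = [φ] by simp [List.ofFn_succ], List.reverse_singleton]
    refine (RingTheory.Sequence.isWeaklyRegular_cons_iff _ φ []).2 ⟨?_, RingTheory.Sequence.IsWeaklyRegular.nil _ _⟩
    intro a b hab
    have hab : Ideal.Quotient.mk (primeOf h).asIdeal φ * a = Ideal.Quotient.mk (primeOf h).asIdeal φ * b := by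
      simpa [Algebra.smul_def] using hab
    exact mul_left_cancel₀ (fun h' => hφ (Ideal.Quotient.eq_zero_iff_mem.1 h')) hab
  have hs1 : Ideal.span (Set.range ![φ]) = Ideal.span {φ} := by simp
  rw [IntMult.mult, stalkIdeal_sect, DiagTorLib.stalkIdeal_ptIdeal h, IntMultRegLib.chi_comm, ← hs1,
    IntMultRegLib.chi_eq_length ![φ] hw _ hM, hs1]
  have hmem : P1.sect X i x ∈ Set.range ι := by
    rw [Scheme.IdealSheafData.range_subschemeι]
    exact (DiagTorLib.mem_support_ptIdeal _ _).2 h
  obtain ⟨z, hz⟩ := hmem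
  obtain ⟨w, hw1, hw2⟩ := Scheme.Pullback.exists_preimage_pullback z x hz
  simp only [Cyc.subschemeFun, if_pos hx]
  rw [show {u : ↥(pullback ι (P1.sect X i)) | pullback.snd ι (P1.sect X i) u = x} = {w} from Set.ext fun u =>
    ⟨fun hu => (pullback.snd ι (P1.sect X i)).isClosedEmbedding.injective (hu.trans hw2.symm),
      fun hu => (congrArg _ hu).trans hw2⟩, finsum_mem_singleton]
  congr 2
  subst hw1 hw2
  have hc : ι (pullback.fst ι (P1.sect X i) w) = P1.sect X i (pullback.snd ι (P1.sect X i) w) := hz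
  have hU : ι (pullback.fst ι (P1.sect X i) w) ∈ CycP1Lib.chartOpen X i := hc ▸ CycP1Lib.sect_mem i _
  have hker := CycGysLib.ker_stalkMap_fst ι (P1.sect X i) w hU (CycP1Lib.sect_mem i _) (CycP1Lib.t X i)
    (CycP1Lib.ker_stalkMap_sect i (pullback.snd ι (P1.sect X i) w))
  have key : ∀ (y : ↥(CohB1.ProjSpaceOver 1 X)) (hy : y ∈ CycP1Lib.chartOpen X i) (hvy : v ⤳ y)
      (_ : ι (pullback.fst ι (P1.sect X i) w) = y),
      Module.length ((CohB1.ProjSpaceOver 1 X).presheaf.stalk y) (↑((CohB1.ProjSpaceOver 1 X).presheaf.stalk y) ⧸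
        ((primeOf hvy).asIdeal ⊔ Ideal.span {(CohB1.ProjSpaceOver 1 X).presheaf.germ _ y hy (CycP1Lib.t X i)})) =
      Module.length ((pullback ι (P1.sect X i)).presheaf.stalk w) ((pullback ι (P1.sect X i)).presheaf.stalk w) := by
    rintro y hy hvy rfl
    let z := pullback.fst ι (P1.sect X i) w
    have hkι : RingHom.ker (ι.stalkMap z).hom = (primeOf hvy).asIdeal := by
      rw [← DiagTorLib.stalkIdeal_ker, Scheme.IdealSheafData.ker_subschemeι, DiagTorLib.stalkIdeal_ptIdeal]
    rw [sup_comm, ← hkι, DiagTorLib.length_quot_of_surjective _ (ι.stalkMap_surjective z) _ _ rfl,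
      Ideal.map_span, Set.image_singleton, ← hker, ← sup_idem (a := RingHom.ker _),
      DiagTorLib.length_quot_of_surjective _ ((pullback.fst ι (P1.sect X i)).stalkMap_surjective w) _ ⊥
        ((Ideal.map_eq_bot_iff_le_ker _).2 le_rfl),
      length_ring_quotBot]
  exact key _ (CycP1Lib.sect_mem i _) h hc

include hdom hX hP hn in
/-- The product with a section, in terms of the fibres. -/
theorem interProd_sect (k : ℤ) (α : AlgebraicCycle (CohB1.ProjSpaceOver 1 X) ℤ) (hα : α ∈ Cyc.Zk (CohB1.ProjSpaceOver 1 X) δP (k + 1))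
    (i : Fin (1 + 1)) (hprop : ∀ v, α v ≠ 0 → v ∉ Set.range (P1.sect X i)) (S : Finset ↥(CohB1.ProjSpaceOver 1 X))
    (hS : ∀ v, α v ≠ 0 → v ∈ S) (x : X) :
    IntMult.interProd δP (n + 1) ⇑α (single (P1.sect X i (genericPoint X))) (P1.sect X i x) =
      ∑ v ∈ S, α v * Cyc.subschemeFun δ k (pullback.snd (IntMult.ptIdeal v).subschemeι (P1.sect X i)) x := by
  classical
  rw [DiagTorLib.interProd_eq_sum δP (n + 1) ⇑α (single (P1.sect X i (genericPoint X))) _ S
    {P1.sect X i (genericPoint X)} (fun v _ h => hS v h)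
    (fun v _ h => Finset.mem_singleton.2 (not_not.1 fun h' => h (single_ne _ _ h'))), Finset.sum_product]
  refine Finset.sum_congr rfl fun v _ => ?_
  rw [Finset.sum_singleton]
  by_cases hv : α v = 0
  · rw [hv, zero_mul, Set.indicator_apply_eq_zero]
    intro _
    simp [hv]
  have hdv : δP v = k + 1 := not_not.1 fun h' => hv (hα v h')
  have hg : δP (P1.sect X i (genericPoint X)) = n := by rw [CycP1Lib.delta_sect hP, hn]
  by_cases hx : δ x = k ∧ v ⤳ P1.sect X i x
  · rw [Set.indicator_of_mem (show (v, P1.sect X i (genericPoint X)) ∈ {p : ↥(CohB1.ProjSpaceOver 1 X) × ↥(CohB1.ProjSpaceOver 1 X) |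
      p.1 ⤳ P1.sect X i x ∧ p.2 ⤳ P1.sect X i x ∧ δP p.1 + δP p.2 - (n + 1) = δP (P1.sect X i x)} from
      ⟨hx.2, ((genericPoint_spec X).specializes trivial).map (P1.sect X i).continuous, by
        show δP v + δP (P1.sect X i (genericPoint X)) - (n + 1) = δP (P1.sect X i x)
        rw [hdv, hg, CycP1Lib.delta_sect hP, hx.1]
        ring⟩), single_self, mul_one, mult_eq_subschemeFun hdom δ hX δP hP i (hprop v hv) k x hx.1 hx.2]
  · rw [Set.indicator_of_notMem (fun hm => hx ⟨by
        have h3 : δP v + δP (P1.sect X i (genericPoint X)) - (n + 1) = δP (P1.sect X i x) := hm.2.2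
        rw [hdv, hg, CycP1Lib.delta_sect hP] at h3
        omega, hm.1⟩)]
    simp only [Cyc.subschemeFun]
    split_ifs with hk
    · rw [show {u : ↥(pullback (IntMult.ptIdeal v).subschemeι (P1.sect X i)) |
          pullback.snd (IntMult.ptIdeal v).subschemeι (P1.sect X i) u = x} = ∅ from
        Set.eq_empty_of_forall_notMem fun u (hu : pullback.snd _ (P1.sect X i) u = x) => hx ⟨hk, ?_⟩,
        finsum_mem_empty, mul_zero]
      have hmem : (IntMult.ptIdeal v).subschemeι (pullback.fst _ (P1.sect X i) u) = P1.sect X i x := by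
        rw [← Scheme.Hom.comp_apply, pullback.condition, Scheme.Hom.comp_apply, hu]
      refine (DiagTorLib.mem_support_ptIdeal _ _).1 ?_
      rw [← SetLike.mem_coe, ← Scheme.IdealSheafData.range_subschemeι]
      exact ⟨_, hmem⟩
    · rw [mul_zero]

/-- The residue field at a point of a section is that of the base. -/
theorem residueDegree_toBase (i : Fin (1 + 1)) (x : X) :
    (CohB1.ProjSpaceOver.toBase 1 X).residueDegree (P1.sect X i x) = 1 := by
  refine CycSeqLib.residueDegree_eq_one_of_residue_surjective _ _ fun z => ?_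
  obtain ⟨y, hy⟩ : ∃ y, ((P1.sect X i ≫ CohB1.ProjSpaceOver.toBase 1 X).residueFieldMap x).hom y =
      ((P1.sect X i).residueFieldMap x).hom z := by
    have hb : Function.Bijective ((P1.sect X i ≫ CohB1.ProjSpaceOver.toBase 1 X).residueFieldMap x).hom := by
      haveI : IsPreimmersion (P1.sect X i ≫ CohB1.ProjSpaceOver.toBase 1 X) := by
        rw [CycP1Lib.sect_toBase]; infer_instance
      exact CycPushLib.residueFieldMap_bijective _ x
    exact hb.2 _
  refine ⟨y, (CycPushLib.residueFieldMap_bijective (P1.sect X i) x).1 ?_⟩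
  rw [← hy, Scheme.residueFieldMap_comp]
  rfl

theorem subschemeι_genericPoint (v : ↥(CohB1.ProjSpaceOver 1 X)) [IsIntegral (IntMult.ptIdeal v).subscheme] :
    (IntMult.ptIdeal v).subschemeι (genericPoint (IntMult.ptIdeal v).subscheme) = v := by
  have h1 : v ⤳ (IntMult.ptIdeal v).subschemeι (genericPoint (IntMult.ptIdeal v).subscheme) := by
    refine (DiagTorLib.mem_support_ptIdeal _ _).1 ?_
    rw [← SetLike.mem_coe, ← Scheme.IdealSheafData.range_subschemeι]
    exact ⟨_, rfl⟩
  obtain ⟨u, hu⟩ : v ∈ Set.range (IntMult.ptIdeal v).subschemeι := by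
    rw [Scheme.IdealSheafData.range_subschemeι]
    exact (DiagTorLib.mem_support_ptIdeal _ _).2 specializes_rfl
  have h2 : (IntMult.ptIdeal v).subschemeι (genericPoint (IntMult.ptIdeal v).subscheme) ⤳ v :=
    by
      have := ((genericPoint_spec _).specializes (y := u) trivial).map (IntMult.ptIdeal v).subschemeι.continuous
      rwa [hu] at this
  exact (h2.antisymm h1).eq

theorem interProd_off (a : ↥(CohB1.ProjSpaceOver 1 X) → ℤ) (i : Fin (1 + 1)) (p : ↥(CohB1.ProjSpaceOver 1 X)) (hp : p ∉ Set.range (P1.sect X i)) :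
    IntMult.interProd δP (n + 1) a (single (P1.sect X i (genericPoint X))) p = 0 := by
  refine finsum_eq_zero_of_forall_eq_zero fun q => ?_
  by_cases hq : q.1.2 = P1.sect X i (genericPoint X)
  · refine absurd ?_ hp
    have hcl : IsClosed (Set.range (P1.sect X i)) := (P1.sect X i).isClosedEmbedding.isClosed_range
    exact hcl.stableUnderSpecialization (hq ▸ q.2.2.1) ⟨_, rfl⟩
  · rw [single_ne _ _ hq, mul_zero, zero_mul]

include hX hP in
/-- The fibre over a section of one component is a cycle. -/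
theorem exists_fibreCycle [CompactSpace X] (v : ↥(CohB1.ProjSpaceOver 1 X)) (i : Fin (1 + 1)) (k : ℤ) (hdv : δP v = k + 1)
    (hv : v ∉ Set.range (P1.sect X i)) :
    ∃ c : AlgebraicCycle X ℤ,
      ⇑c = Cyc.subschemeFun δ k (pullback.snd (IntMult.ptIdeal v).subschemeι (P1.sect X i)) := by
  haveI := hX.1
  let ι := (IntMult.ptIdeal v).subschemeι
  let j := pullback.snd ι (P1.sect X i)
  haveI : IsNoetherian X := { }
  haveI : NoetherianSpace ↥(pullback ι (P1.sect X i)) := j.isClosedEmbedding.isInducing.noetherianSpace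
  have hle : ∀ u, δ (j u) ≤ k := fun u => by
    have h : v ⤳ P1.sect X i (j u) := by
      refine (DiagTorLib.mem_support_ptIdeal _ _).1 ?_
      rw [← SetLike.mem_coe, ← Scheme.IdealSheafData.range_subschemeι]
      exact ⟨pullback.fst ι (P1.sect X i) u, by
        rw [← Scheme.Hom.comp_apply, pullback.condition, Scheme.Hom.comp_apply]⟩
    have h' := ((CycP1Lib.isSetup_proj hX hP).2.2 v _ h fun e => hv ⟨_, e.symm⟩).1
    rw [CycP1Lib.delta_sect hP, hdv] at h'
    omega
  have hfin : {u : ↥(pullback ι (P1.sect X i)) | δ (j u) = k}.Finite := by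
    refine Set.Finite.of_injOn (f := fun u => closure {u}) (t := irreducibleComponents _) (fun u hu => ?_)
      (fun a _ b _ (hab : closure ({a} : Set ↥(pullback ι (P1.sect X i))) = closure {b}) =>
        ((specializes_iff_mem_closure.2 (hab.symm.le (subset_closure rfl))).antisymm
          (specializes_iff_mem_closure.2 (hab.le (subset_closure rfl)))).eq) NoetherianSpace.finite_irreducibleComponents
    refine ⟨isIrreducible_singleton.closure, fun T hT hle' => ?_⟩
    obtain ⟨g, hg⟩ := QuasiSober.sober hT.closure isClosed_closure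
    have hgu : g ⤳ u := by
      rw [hg.specializes_iff_mem]
      exact subset_closure (hle' (subset_closure rfl))
    have : g = u := by
      by_contra hne
      have h' := (hX.2.2 _ _ (hgu.map j.continuous) fun e => hne (j.isClosedEmbedding.injective e)).1
      have := hle g
      have hu : δ (j u) = k := hu
      omega
    subst this
    exact subset_closure.trans hg.def.ge
  refine ⟨{ toFun := Cyc.subschemeFun δ k j, supportWithinDomain' := by simp,
            supportLocallyFiniteWithinDomain' := fun y _ => ?_ }, rfl⟩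
  refine ⟨Set.univ, Filter.univ_mem, (hfin.image j).subset fun x hx => ?_⟩
  have hx := hx.2
  simp only [Function.mem_support, Cyc.subschemeFun] at hx
  split_ifs at hx with hk
  · obtain ⟨u, hu, -⟩ := exists_ne_zero_of_finsum_mem_ne_zero hx
    have hu : j u = x := hu
    exact ⟨u, by show δ (j u) = k; rw [hu]; exact hk, hu⟩
  · exact absurd rfl hx

include hP in
/-- The pushforward to the base of a cycle on the two sections. -/
theorem map_toBase_apply [QuasiCompact (CohB1.ProjSpaceOver.toBase 1 X)] (γ : AlgebraicCycle (CohB1.ProjSpaceOver 1 X) ℤ)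
    (hsupp : ∀ p, γ p ≠ 0 → p ∈ Set.range (P1.sect X 0) ∨ p ∈ Set.range (P1.sect X 1)) (x : X) :
    AlgebraicCycle.map (CohB1.ProjSpaceOver.toBase 1 X) δP δ γ x = γ (P1.sect X 0 x) + γ (P1.sect X 1 x) := by
  classical
  let π := CohB1.ProjSpaceOver.toBase 1 X
  show ∑ᶠ a ∈ π ⁻¹' {x}, γ a * ((AlgebraicCycle.mapCoeff π δP δ a : ℕ) : ℤ) = _
  have hne : P1.sect X 0 x ≠ P1.sect X 1 x := fun e =>
    CycP1Lib.not_mem_both (i := 0) ⟨x, rfl⟩ ⟨x, e.symm⟩
  have hcoef : ∀ i : Fin (1 + 1), AlgebraicCycle.mapCoeff π δP δ (P1.sect X i x) = 1 := fun i => by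
    have e : π (P1.sect X i x) = x := CycP1Lib.toBase_sect i x
    simp only [AlgebraicCycle.mapCoeff, π, CycP1Lib.toBase_sect, CycP1Lib.delta_sect hP, residueDegree_toBase]
    simp
  rw [finsum_mem_inter_support_eq' _ (π ⁻¹' {x}) {P1.sect X 0 x, P1.sect X 1 x} fun a ha => ?_,
    finsum_mem_pair hne, hcoef, hcoef]
  · simp
  · have hγa : γ a ≠ 0 := fun h => ha (by simp [h])
    constructor
    · intro (hax : π a = x)
      rcases hsupp a hγa with ⟨y, rfl⟩ | ⟨y, rfl⟩ <;>
        [left; right] <;> · rw [← hax]; exact congrArg _ (CycP1Lib.toBase_sect _ y).symm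
    · rintro (rfl | rfl) <;> exact CycP1Lib.toBase_sect _ x

include hdom hX hP hn in
/-- The two fibres of a cycle on the projective line. -/
theorem ratEquivZero_fibre_diff [CompactSpace X] (k : ℤ) (α : AlgebraicCycle (CohB1.ProjSpaceOver 1 X) ℤ)
    (hα : α ∈ Cyc.Zk (CohB1.ProjSpaceOver 1 X) δP (k + 1))
    (h0 : IntMult.IntersectProperly δP (n + 1) ⇑α (single (P1.sect X 0 (genericPoint X))))
    (h1 : IntMult.IntersectProperly δP (n + 1) ⇑α (single (P1.sect X 1 (genericPoint X))))
    [QuasiCompact (CohB1.ProjSpaceOver.toBase 1 X)]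
    (γ : AlgebraicCycle (CohB1.ProjSpaceOver 1 X) ℤ)
    (hγ : ⇑γ = IntMult.interProd δP (n + 1) ⇑α (single (P1.sect X 0 (genericPoint X))) -
      IntMult.interProd δP (n + 1) ⇑α (single (P1.sect X 1 (genericPoint X)))) :
    Cyc.RatEquivZero δ k (AlgebraicCycle.map (CohB1.ProjSpaceOver.toBase 1 X) δP δ γ) := by
  classical
  haveI := hX.1
  haveI : CompactSpace ↥(CohB1.ProjSpaceOver 1 X) := QuasiCompact.compactSpace_of_compactSpace (CohB1.ProjSpaceOver.toBase 1 X)
  let S := (CycLimLib.support_finite α).toFinset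
  have hS : ∀ v, α v ≠ 0 → v ∈ S := fun v hv => (CycLimLib.support_finite α).mem_toFinset.2 hv
  have hprop : ∀ i : Fin (1 + 1),
      IntMult.IntersectProperly δP (n + 1) ⇑α (single (P1.sect X i (genericPoint X))) →
      ∀ v, α v ≠ 0 → v ∉ Set.range (P1.sect X i) := by
    rintro i hi v hv ⟨y, rfl⟩
    have := hi (P1.sect X i y) (P1.sect X i (genericPoint X)) (P1.sect X i y) hv
      (by rw [single_self]; exact one_ne_zero) specializes_rfl
      (((genericPoint_spec X).specializes trivial).map (P1.sect X i).continuous)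
    rw [CycP1Lib.delta_sect hP i (genericPoint X), hn] at this
    omega
  -- the fibres of one component
  have hPs := CycP1Lib.isSetup_proj hX hP
  have hcyc : ∀ (v : ↥(CohB1.ProjSpaceOver 1 X)) (i : Fin (1 + 1)), δP v = k + 1 → v ∉ Set.range (P1.sect X i) →
      ∃ c : AlgebraicCycle X ℤ,
        ⇑c = Cyc.subschemeFun δ k (pullback.snd (IntMult.ptIdeal v).subschemeι (P1.sect X i)) :=
    fun v i hdv hv => exists_fibreCycle δ hX δP hP v i k hdv hv
  let F := fun v i => Cyc.subschemeFun δ k (pullback.snd (IntMult.ptIdeal v).subschemeι (P1.sect X i))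
  let c : ↥(CohB1.ProjSpaceOver 1 X) → Fin (1 + 1) → AlgebraicCycle X ℤ := fun v i =>
    if h : δP v = k + 1 ∧ v ∉ Set.range (P1.sect X i) then (hcyc v i h.1 h.2).choose else 0
  have hc : ∀ v i, α v ≠ 0 → v ∉ Set.range (P1.sect X i) → ⇑(c v i) = F v i := fun v i hv hv' => by
    have h : δP v = k + 1 ∧ v ∉ Set.range (P1.sect X i) := ⟨not_not.1 fun h' => hv (hα v h'), hv'⟩
    simp only [c]
    rw [dif_pos h]
    exact (hcyc v i h.1 h.2).choose_spec
  have hdiff : ∀ v ∈ S, Cyc.RatEquiv δ k (c v 0) (c v 1) := by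
    intro v hv
    have hne : α v ≠ 0 := (CycLimLib.support_finite α).mem_toFinset.1 hv
    haveI : IsIntegral (IntMult.ptIdeal v).subscheme := NagataFG.isIntegral_closure v
    have hg : (IntMult.ptIdeal v).subschemeι (genericPoint (IntMult.ptIdeal v).subscheme) = v :=
      subschemeι_genericPoint v
    refine Groth.Agent.S1900.result X δ hX δP hP k (IntMult.ptIdeal v).subscheme (IntMult.ptIdeal v).subschemeι ?_
      (by rw [hg]; exact hprop 0 h0 v hne) (by rw [hg]; exact hprop 1 h1 v hne) _ _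
      (hc v 0 hne (hprop 0 h0 v hne)) (hc v 1 hne (hprop 1 h1 v hne))
    rw [hg]
    exact not_not.1 fun h' => hne (hα v h')
  have hval : ∀ x : X, γ (P1.sect X 0 x) = ∑ v ∈ S, α v * c v 0 x ∧
      γ (P1.sect X 1 x) = - ∑ v ∈ S, α v * c v 1 x := by
    intro x
    have key : ∀ i : Fin (1 + 1), (∀ v, α v ≠ 0 → v ∉ Set.range (P1.sect X i)) →
        IntMult.interProd δP (n + 1) ⇑α (single (P1.sect X i (genericPoint X))) (P1.sect X i x) =
          ∑ v ∈ S, α v * c v i x := fun i hi => by
      rw [interProd_sect hdom δ hX δP hP n hn k α hα i hi S hS x]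
      refine Finset.sum_congr rfl fun v hv => ?_
      have hne : α v ≠ 0 := (CycLimLib.support_finite α).mem_toFinset.1 hv
      rw [hc v i hne (hi v hne)]
    have hoff : ∀ i j : Fin (1 + 1), P1.sect X j x ∉ Set.range (P1.sect X i) →
        IntMult.interProd δP (n + 1) ⇑α (single (P1.sect X i (genericPoint X))) (P1.sect X j x) = 0 :=
      fun i j hij => interProd_off δP n ⇑α i _ hij
    constructor
    · rw [hγ, Pi.sub_apply, key 0 (hprop 0 h0), hoff 1 0 (CycP1Lib.not_mem_both (i := 0) ⟨x, rfl⟩), sub_zero]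
    · rw [hγ, Pi.sub_apply, key 1 (hprop 1 h1), hoff 0 1 (CycP1Lib.not_mem_both (i := 1) ⟨x, rfl⟩), zero_sub]
  have hsupp : ∀ p, γ p ≠ 0 → p ∈ Set.range (P1.sect X 0) ∨ p ∈ Set.range (P1.sect X 1) := by
    intro p hp
    by_contra hno
    push_neg at hno
    refine hp ?_
    rw [hγ, Pi.sub_apply, interProd_off δP n _ 0 p hno.1, interProd_off δP n _ 1 p hno.2, sub_zero]
  have hmap : AlgebraicCycle.map (CohB1.ProjSpaceOver.toBase 1 X) δP δ γ = ∑ v ∈ S, α v • (c v 0 - c v 1) := by
    refine DFunLike.ext _ _ fun x => ?_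
    rw [map_toBase_apply δ δP hP γ hsupp x, (hval x).1, (hval x).2, CycPBLib.Bun.cyc_sum_apply, ← sub_eq_add_neg,
      ← Finset.sum_sub_distrib]
    refine Finset.sum_congr rfl fun v _ => ?_
    rw [CycPBLib.smul_apply, show (c v 0 - c v 1) x = c v 0 x - c v 1 x from rfl, mul_sub]
  rw [hmap]
  exact CycPBLib.Bun.ratEquivZero_finset_sum hX S _ fun v hv => CycPBLib.ratEquivZero_smul hX _ (hdiff v hv)

end P1InterLib
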